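import Groth.Agent.NodalLib.QuadCpl
import Groth.Agent.NoetherCharPLib.Basic
import Mathlib.RingTheory.Etale.Kaehler
import Mathlib.RingTheory.Smooth.Basic
import Mathlib.LinearAlgebra.Matrix.Basis

/-!
# Coordinate derivations and the Jacobian criterion
-/

set_option autoImplicit false
set_option linter.unusedSectionVars false
set_option maxHeartbeats 800000
set_option backward.isDefEq.respectTransparency false
set_option backward.isDefEq.respectTransparency.types false

universe u v w

open KaehlerDifferential TensorProduct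

noncomputable section

namespace NodalLib.NodeEtale

section Coord

variable {R : Type u} {S : Type u} [CommRing R] [CommRing S] [Algebra R S] {ι : Type} [Fintype ι]
  [DecidableEq ι]

/-- The derivation reading off one coordinate of the differential. -/
def coordDer (b : Module.Basis ι S Ω[S⁄R]) (i : ι) : Derivation R S S :=
  (b.coord i).compDer (D R S)

theorem coordDer_apply (b : Module.Basis ι S Ω[S⁄R]) (i : ι) (e : S) :
    coordDer b i e = b.repr (D R S e) i := rfl

variable (b : Module.Basis ι S Ω[S⁄R]) (x : ι → S) (hb : ∀ i, b i = D R S (x i))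

include hb in
theorem coordDer_self (i j : ι) : coordDer b i (x j) = if i = j then 1 else 0 := by
  rw [coordDer_apply, ← hb, b.repr_self, Finsupp.single_apply]
  split <;> split <;> simp_all

include hb in
/-- A derivation is determined by its values on coordinates. -/
theorem der_expand {M : Type*} [AddCommGroup M] [Module R M] [Module S M] [IsScalarTower R S M]
    (δ : Derivation R S M) (e : S) : δ e = ∑ i, coordDer b i e • δ (x i) := by
  have h := congrArg δ.liftKaehlerDifferential (b.sum_repr (D R S e)).symm
  rw [Derivation.liftKaehlerDifferential_comp_D] at h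
  rw [h, map_sum]
  refine Finset.sum_congr rfl fun i _ => ?_
  rw [map_smul, hb, Derivation.liftKaehlerDifferential_comp_D, coordDer_apply]

include hb in
/-- Two maps which agree up to an ideal of square zero differ by the differential. -/
theorem sub_eq_sum {T : Type*} [CommRing T] [Algebra R T] (f g : S →ₐ[R] T)
    (h : ∀ y z, (f y - g y) * (f z - g z) = 0) (e : S) :
    f e - g e = ∑ i, g (coordDer b i e) * (f (x i) - g (x i)) := by
  letI : Algebra S T := g.toRingHom.toAlgebra
  haveI : IsScalarTower R S T := IsScalarTower.of_algebraMap_eq fun r => (g.commutes r).symm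
  let δ : Derivation R S T := Derivation.mk' (f.toLinearMap - g.toLinearMap) fun y z => by
    show f (y * z) - g (y * z) = g y * (f z - g z) + g z * (f y - g y)
    simp only [map_mul]
    linear_combination h y z
  exact der_expand b x hb δ e

variable (T : Type u) [CommRing T] [Algebra R T] [Algebra S T] [IsScalarTower R S T]

/-- The basis of differentials carried along a formally etale map. -/
def basisOfEtale [Algebra.FormallyEtale S T] : Module.Basis ι T Ω[T⁄R] :=
  (b.baseChange T).map (tensorKaehlerEquivOfFormallyEtale R S T)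

include hb in
theorem basisOfEtale_apply [Algebra.FormallyEtale S T] (i : ι) :
    basisOfEtale b T i = D R T (algebraMap S T (x i)) := by
  rw [basisOfEtale, Module.Basis.map_apply, Module.Basis.baseChange_apply,
    tensorKaehlerEquivOfFormallyEtale_apply, mapBaseChange_tmul, one_smul, hb, map_D]

end Coord

/-- The symmetric bilinear form of a binary quadratic form. -/
def qfPolar {K : Type*} [CommRing K] (a b c u₁ v₁ u₂ v₂ : K) : K :=
  2 * a * u₁ * u₂ + b * (u₁ * v₂ + v₁ * u₂) + 2 * c * v₁ * v₂

section Compat

variable {R R' S T : Type u} [CommRing R] [CommRing R'] [CommRing S] [CommRing T] [Algebra R R'] [Algebra R S]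
  [Algebra R T] [Algebra R' T] [IsScalarTower R R' T] {ι : Type} [Fintype ι] [DecidableEq ι]

/-- Coordinate derivations commute with maps respecting the coordinates. -/
theorem coordDer_map (φ : S →ₐ[R] T) (b : Module.Basis ι S Ω[S⁄R]) (x : ι → S) (hb : ∀ i, b i = D R S (x i))
    (b' : Module.Basis ι T Ω[T⁄R']) (hb' : ∀ i, b' i = D R' T (φ (x i))) (i : ι) (e : S) :
    coordDer b' i (φ e) = φ (coordDer b i e) := by
  letI : Algebra S T := φ.toRingHom.toAlgebra
  haveI : IsScalarTower R S T := IsScalarTower.of_algebraMap_eq fun r => (φ.commutes r).symm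
  let δ : Derivation R S T := Derivation.mk' ((coordDer b' i).toLinearMap.restrictScalars R ∘ₗ φ.toLinearMap)
    fun y z => by
      show coordDer b' i (φ (y * z)) = φ y * coordDer b' i (φ z) + φ z * coordDer b' i (φ y)
      rw [map_mul, Derivation.leibniz]
      rfl
  rw [show coordDer b' i (φ e) = δ e from rfl, der_expand b x hb δ e, Finset.sum_eq_single i]
  · show φ _ * coordDer b' i (φ (x i)) = _
    rw [coordDer_self b' (fun j => φ (x j)) hb', if_pos rfl, mul_one]
  · intro j _ hj
    show φ _ * coordDer b' i (φ (x j)) = 0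
    rw [coordDer_self b' (fun j => φ (x j)) hb', if_neg (Ne.symm hj), mul_zero]
  · simp

end Compat

section Hessian

variable {R T K : Type*} [CommRing R] [CommRing T] [CommRing K] [Algebra R T] (χ : T →+* K)
  (D₁ D₂ : Derivation R T T)

/-- Second derivatives of a multiple of a function vanishing to second order. -/
theorem der_der_mul (t g : T) (hg : χ g = 0) (h₁ : χ (D₁ g) = 0) (h₂ : χ (D₂ g) = 0) :
    χ (D₁ (D₂ (t * g))) = χ t * χ (D₁ (D₂ g)) := by
  simp [Derivation.leibniz, smul_eq_mul, hg, h₁, h₂]

/-- Second derivatives of a quadratic form in functions vanishing at the point. -/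
theorem der_der_qf (a b c u v : T) (hu : χ u = 0) (hv : χ v = 0) :
    χ (D₁ (D₂ (qf a b c u v))) = qfPolar (χ a) (χ b) (χ c) (χ (D₁ u)) (χ (D₁ v)) (χ (D₂ u)) (χ (D₂ v)) := by
  simp [qf, qfPolar, pow_two, Derivation.leibniz, smul_eq_mul, hu, hv]
  ring

/-- Second derivatives of the cube of a point vanish at it. -/
theorem der_der_cube (z : T) (hz : z ∈ RingHom.ker χ ^ 3) : χ (D₁ (D₂ z)) = 0 := by
  have h2 : ∀ (Δ : Derivation R T T), ∀ z ∈ RingHom.ker χ ^ 2, χ (Δ z) = 0 := fun Δ z hz => by
    rw [pow_two] at hz
    refine Submodule.mul_induction_on hz (fun m hm n hn => ?_) (fun y y' hy hy' => ?_)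
    · simp [Derivation.leibniz, smul_eq_mul, RingHom.mem_ker.1 hm, RingHom.mem_ker.1 hn]
    · simp [hy, hy']
  rw [pow_succ] at hz
  refine Submodule.mul_induction_on hz (fun m hm n hn => ?_) (fun y y' hy hy' => by simp [hy, hy'])
  rw [mul_comm m n]
  have hm0 : χ m = 0 := RingHom.mem_ker.1 (Ideal.pow_le_self two_ne_zero hm)
  rw [der_der_mul χ D₁ D₂ n m hm0 (h2 _ _ hm) (h2 _ _ hm), RingHom.mem_ker.1 hn, zero_mul]

end Hessian

section Criterion

variable {R P : Type u} [CommRing R] [CommRing P] [Algebra R P] {ι : Type} [Fintype ι] [DecidableEq ι]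

/-- The Jacobian criterion for a quotient of a smooth algebra. -/
theorem etale_quotient_of_jacobian [Algebra.Smooth R P] (b : Module.Basis ι P Ω[P⁄R]) (g : ι → P)
    (hdet : IsUnit (Ideal.Quotient.mk (Ideal.span (Set.range g))
      (Matrix.of fun i j => coordDer b i (g j)).det)) :
    Algebra.Etale R (P ⧸ Ideal.span (Set.range g)) := by
  let I := Ideal.span (Set.range g)
  let C := P ⧸ I
  let M : Matrix ι ι C := (Matrix.of fun i j => coordDer b i (g j)).map (Ideal.Quotient.mk I)
  have hM : IsUnit M.det := by
    rw [show M.det = Ideal.Quotient.mk I _ from (RingHom.map_det _ _).symm]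
    exact hdet
  have hsurj : Function.Surjective (algebraMap P C) := Ideal.Quotient.mk_surjective
  have hker : RingHom.ker (algebraMap P C) = I := Ideal.mk_ker
  let J := RingHom.ker (algebraMap P C)
  let gI : ι → J := fun j => ⟨g j, hker.ge (Ideal.subset_span ⟨j, rfl⟩)⟩
  let one : ι → C →ₗ[P] J.Cotangent := fun j =>
    Submodule.liftQ I (LinearMap.toSpanSingleton P _ (J.toCotangent (gI j))) fun z hz => by
      rw [LinearMap.mem_ker, LinearMap.toSpanSingleton_apply, ← map_smul, Ideal.toCotangent_eq_zero, pow_two]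
      exact Ideal.mul_mem_mul (hker.ge hz) (gI j).2
  let Ψ : (ι → C) →ₗ[P] J.Cotangent := ∑ j, (one j).comp (LinearMap.proj j)
  have hΨ : ∀ c : ι → P, Ψ (fun j => Ideal.Quotient.mk I (c j)) = J.toCotangent (∑ j, c j • gI j) := fun c => by
    simp only [Ψ, LinearMap.sum_apply, map_sum, map_smul]
    exact Finset.sum_congr rfl fun j _ => rfl
  have hΨs : Function.Surjective Ψ := fun z => by
    obtain ⟨⟨y, hy⟩, rfl⟩ := J.toCotangent_surjective z
    obtain ⟨c, hc⟩ := (Ideal.mem_span_range_iff_exists_fun).1 (hker.le hy)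
    refine ⟨fun j => Ideal.Quotient.mk I (c j), (hΨ c).trans (congrArg _ (Subtype.ext ?_))⟩
    simpa [gI] using hc
  let κ := kerCotangentToTensor R P C
  let E := (b.baseChange C).equivFun
  have hθ : ∀ c : ι → C, E (κ (Ψ c)) = M.mulVec c := fun c => by
    choose c' hc' using fun j => Ideal.Quotient.mk_surjective (c j)
    obtain rfl : (fun j => Ideal.Quotient.mk I (c' j)) = c := funext hc'
    rw [hΨ]
    funext i
    have hz : κ (J.toCotangent (∑ j, c' j • gI j)) = (1 : C) ⊗ₜ[P] D R P (∑ j, c' j * g j) := by
      rw [KaehlerDifferential.kerCotangentToTensor_toCotangent]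
      simp [gI]
    rw [hz, Module.Basis.equivFun_apply, Module.Basis.baseChange_repr_tmul, map_sum, map_sum,
      Finsupp.finset_sum_apply, Finset.sum_smul]
    refine Finset.sum_congr rfl fun j _ => ?_
    have hg : Ideal.Quotient.mk I (g j) = 0 := Ideal.Quotient.eq_zero_iff_mem.2 (Ideal.subset_span ⟨j, rfl⟩)
    simp only [Derivation.leibniz, map_add, map_smul, Finsupp.add_apply, Finsupp.smul_apply, smul_eq_mul,
      M, Matrix.map_apply, Matrix.of_apply, coordDer_apply, Algebra.smul_def, Ideal.Quotient.algebraMap_eq,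
      map_mul, mul_one]
    show Ideal.Quotient.mk I (c' j) * Ideal.Quotient.mk I _ + Ideal.Quotient.mk I (g j) * Ideal.Quotient.mk I _ = _
    rw [hg, zero_mul, add_zero, mul_comm]
  have hls : ∀ y, ∃ c, κ (Ψ c) = y := fun y =>
    ⟨M⁻¹.mulVec (E y), E.injective (by rw [hθ, Matrix.mulVec_mulVec, M.mul_nonsing_inv hM, Matrix.one_mulVec])⟩
  haveI : Algebra.FormallySmooth R C := by
    refine (Algebra.FormallySmooth.iff_split_injection hsurj).2
      ⟨Ψ ∘ₗ ((Matrix.mulVecLin M⁻¹ ∘ₗ E.toLinearMap).restrictScalars P), LinearMap.ext fun z => ?_⟩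
    obtain ⟨c, rfl⟩ := hΨs z
    show Ψ (M⁻¹.mulVec (E (κ (Ψ c)))) = Ψ c
    rw [hθ, Matrix.mulVec_mulVec, M.nonsing_inv_mul hM, Matrix.one_mulVec]
  haveI : Algebra.FormallyUnramified R C := ⟨subsingleton_of_forall_eq 0 fun z => by
    obtain ⟨y, rfl⟩ := KaehlerDifferential.mapBaseChange_surjective R P C hsurj z
    obtain ⟨c, rfl⟩ := hls y
    exact (KaehlerDifferential.exact_kerCotangentToTensor_mapBaseChange R P C hsurj _).2 ⟨_, rfl⟩⟩
  exact { formallyEtale := Algebra.FormallyEtale.of_formallyUnramified_and_formallySmooth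
          finitePresentation := Algebra.FinitePresentation.quotient
            (Submodule.fg_span (Set.finite_range g)) }

end Criterion

end NodalLib.NodeEtale

end
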