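import Groth.Agent.NodalLib.SingLocal
import Groth.Agent.NodalLib.NodeEtale.Diff
import Groth.Agent.CIRingLib.GoodFact
import Groth.Agent.CIRingLib.Completion
import Groth.Agent.CIRingLib.Avramov
import Groth.Agent.CohenLib.RegularField
import Mathlib.RingTheory.Unramified.LocalStructure
import Mathlib.RingTheory.KrullDimension.Regular
import Mathlib.RingTheory.Etale.StandardEtale

/-!
# Smooth charts at nodes: a flat family is locally a hypersurface with nondegenerate Hessian in a smooth surface
-/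

set_option autoImplicit false
set_option linter.unusedSectionVars false
set_option linter.style.haveILetI false
set_option maxHeartbeats 2000000
set_option synthInstance.maxHeartbeats 200000
set_option backward.isDefEq.respectTransparency false
set_option backward.isDefEq.respectTransparency.types false

universe u

open IsLocalRing KaehlerDifferential

noncomputable section

namespace NodalLib.NodeEtale

/-- Derivations preserve ideals generated from the base. -/
theorem der_mem_map {R E : Type*} [CommRing R] [CommRing E] [Algebra R E] (D : Derivation R E E) (p : Ideal R)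
    {z : E} (hz : z ∈ p.map (algebraMap R E)) : D z ∈ p.map (algebraMap R E) := by
  induction hz using Submodule.span_induction with
  | mem z hz =>
    obtain ⟨r, -, rfl⟩ := hz
    simp
  | zero => simp
  | add y y' _ _ hy hy' => rw [map_add]; exact add_mem hy hy'
  | smul e y hy' hy =>
    rw [smul_eq_mul, Derivation.leibniz, smul_eq_mul, smul_eq_mul]
    exact add_mem (Ideal.mul_mem_left _ _ hy) (Ideal.mul_mem_right _ _ hy')

/-- Derivations of elements of the square vanish at the point. -/
theorem der_sq {R T K : Type*} [CommRing R] [CommRing T] [CommRing K] [Algebra R T] (χ : T →+* K)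
    (D : Derivation R T T) {z : T} (hz : z ∈ RingHom.ker χ ^ 2) : χ (D z) = 0 := by
  rw [pow_two] at hz
  refine Submodule.mul_induction_on hz (fun m hm n hn => ?_) fun y y' hy hy' => by simp [hy, hy']
  simp [Derivation.leibniz, smul_eq_mul, RingHom.mem_ker.1 hm, RingHom.mem_ker.1 hn]

/-- Rescaled generators in the range of a map with dense image. -/
theorem qnode_coords {B A : Type u} [CommRing B] [CommRing A] [IsLocalRing A] (π : B →+* A)
    (hloc : ∀ z, ∃ b s, IsUnit (π s) ∧ z * π s = π b) (hQ : QNode A) :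
    ∃ u v a b c : B, maximalIdeal A = Ideal.span {π u, π v} ∧
      (∀ p r : A, p * π u + r * π v ∈ maximalIdeal A ^ 2 → p ∈ maximalIdeal A ∧ r ∈ maximalIdeal A) ∧
      IsUnit (π (4 * a * c - b ^ 2)) ∧ π (qf a b c u v) ∈ maximalIdeal A ^ 3 ∧
      ∃ t ∈ maximalIdeal A, t ∈ nonZeroDivisors A := by
  obtain ⟨x, y, a, b, c, hm, hind, hd, hq, ht⟩ := hQ
  obtain ⟨u, su, hsu, hu⟩ := hloc x
  obtain ⟨v, sv, hsv, hv⟩ := hloc y
  obtain ⟨a', sa, hsa, ha⟩ := hloc a
  obtain ⟨b', sb, hsb, hb⟩ := hloc b
  obtain ⟨c', sc, hsc, hc⟩ := hloc c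
  refine ⟨u, v, a' * (sb * sc) * sv ^ 2, b' * (sa * sc) * (su * sv), c' * (sa * sb) * su ^ 2, ?_, ?_, ?_, ?_, ht⟩
  · rw [hm, ← hu, ← hv]
    refine le_antisymm (Ideal.span_le.2 (Set.pair_subset ?_ ?_)) (Ideal.span_le.2 (Set.pair_subset ?_ ?_))
    · exact (Ideal.mul_unit_mem_iff_mem _ hsu).1 (Ideal.subset_span (by simp))
    · exact (Ideal.mul_unit_mem_iff_mem _ hsv).1 (Ideal.subset_span (by simp))
    · exact Ideal.mul_mem_right _ _ (Ideal.subset_span (by simp))
    · exact Ideal.mul_mem_right _ _ (Ideal.subset_span (by simp))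
  · intro p r h
    obtain ⟨h1, h2⟩ := hind (p * π su) (r * π sv) (by rw [← hu, ← hv] at h; convert h using 1; ring)
    exact ⟨(Ideal.mul_unit_mem_iff_mem _ hsu).1 h1, (Ideal.mul_unit_mem_iff_mem _ hsv).1 h2⟩
  · have : π (4 * (a' * (sb * sc) * sv ^ 2) * (c' * (sa * sb) * su ^ 2) - (b' * (sa * sc) * (su * sv)) ^ 2) =
        (π sa * π sb * π sc * π su * π sv) ^ 2 * (4 * a * c - b ^ 2) := by
      simp only [map_sub, map_mul, map_pow, map_ofNat, ← ha, ← hb, ← hc]
      ring
    rw [this]
    exact (((((hsa.mul hsb).mul hsc).mul hsu).mul hsv).pow 2).mul hd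
  · have : π (qf (a' * (sb * sc) * sv ^ 2) (b' * (sa * sc) * (su * sv)) (c' * (sa * sb) * su ^ 2) u v) =
        π sa * π sb * π sc * (π su * π sv) ^ 2 * qf a b c x y := by
      simp only [qf, map_add, map_mul, map_pow, ← ha, ← hb, ← hc, ← hu, ← hv]
      ring
    rw [this]
    exact Ideal.mul_mem_left _ _ hq

section Chart

variable {R B : Type u} [CommRing R] [CommRing B] [Algebra R B] [Algebra.FinitePresentation R B]
  (q : Ideal B) [q.IsPrime]

/-- A flat family at a quadratic node embeds into an algebra etale over the affine plane. -/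
theorem exists_surjection {A : Type u} [CommRing A] [IsLocalRing A] (π : B →+* A)
    (hq : (maximalIdeal A).comap π = q) (hloc : ∀ z, ∃ b s, IsUnit (π s) ∧ z * π s = π b)
    (hker : ∀ b, π b = 0 ↔ ∃ s ∉ q, s * b ∈ (q.under R).map (algebraMap R B))
    (hsep : Algebra.FormallyUnramified R q.ResidueField) (u v : B)
    (huv : maximalIdeal A = Ideal.span {π u, π v}) :
    ∃ f ∉ q, ∃ (E : Type u) (_ : CommRing E) (_ : Algebra (MvPolynomial (Fin 2) R) E)
      (_ : Algebra.Etale (MvPolynomial (Fin 2) R) E) (φ : E →+* Localization.Away f),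
      Function.Surjective φ ∧ ∀ F : MvPolynomial (Fin 2) R, φ (algebraMap (MvPolynomial (Fin 2) R) E F) =
        algebraMap B (Localization.Away f) (MvPolynomial.aeval (R := R) ![u, v] F) := by
  let P := MvPolynomial (Fin 2) R
  letI : Algebra P B := (MvPolynomial.aeval ![u, v]).toRingHom.toAlgebra
  haveI : IsScalarTower R P B :=
    IsScalarTower.of_algebraMap_eq fun r => ((MvPolynomial.aeval (R := R) ![u, v]).commutes r).symm
  haveI : Algebra.FiniteType P B := Algebra.FiniteType.of_restrictScalars_finiteType R P B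
  let p' := q.under P
  haveI : p'.IsPrime := inferInstance
  letI := Localization.AtPrime.algebraOfLiesOver p' q
  have huq : ∀ i, ![u, v] i ∈ q := fun i => by
    rw [← hq, Ideal.mem_comap, huv]
    fin_cases i <;> exact Ideal.subset_span (by simp)
  have hXp : ∀ i, (MvPolynomial.X i : P) ∈ p' := fun i => by
    show (MvPolynomial.aeval ![u, v]) (MvPolynomial.X i) ∈ q
    rw [MvPolynomial.aeval_X]
    exact huq i
  haveI : Algebra.IsUnramifiedAt P q := by
    refine (Algebra.isUnramifiedAt_iff_map_eq P p' q).2 ⟨?_, ?_⟩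
    · haveI := hsep
      haveI : Algebra.FormallyUnramified p'.ResidueField q.ResidueField :=
        Algebra.FormallyUnramified.of_restrictScalars R p'.ResidueField q.ResidueField
      exact Algebra.FormallyUnramified.isSeparable _ _
    · let L := Localization.AtPrime q
      refine le_antisymm ?_ ?_
      · rw [IsScalarTower.algebraMap_eq P B L, ← Ideal.map_map, ← Localization.AtPrime.map_eq_maximalIdeal]
        exact Ideal.map_mono Ideal.map_comap_le
      · rw [← Localization.AtPrime.map_eq_maximalIdeal, Ideal.map_le_iff_le_comap]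
        intro z hz
        have hzA : π z ∈ Ideal.span {π u, π v} := by rw [← huv]; exact Ideal.mem_comap.1 (hq.ge hz)
        obtain ⟨α, β, hαβ⟩ := Ideal.mem_span_pair.1 hzA
        obtain ⟨bα, sα, hsα, hα⟩ := hloc α
        obtain ⟨bβ, sβ, hsβ, hβ⟩ := hloc β
        obtain ⟨s, hs, hsm⟩ := (hker (sα * sβ * z - (bα * sβ * u + bβ * sα * v))).1 (by
          simp only [map_sub, map_add, map_mul, ← hα, ← hβ, ← hαβ]; ring)
        have hns : ∀ w : B, IsUnit (π w) → w ∉ q := fun w hw h =>
          (mem_maximalIdeal _).1 (Ideal.mem_comap.1 (hq.ge h)) hw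
        have hmem : s * (sα * sβ) * z ∈ p'.map (algebraMap P B) := by
          rw [show s * (sα * sβ) * z = s * (sα * sβ * z - (bα * sβ * u + bβ * sα * v)) +
            (s * (bα * sβ) * u + s * (bβ * sα) * v) by ring]
          refine add_mem ?_ (add_mem (Ideal.mul_mem_left _ _ ?_) (Ideal.mul_mem_left _ _ ?_))
          · refine (Ideal.map_le_iff_le_comap.2 fun r hr => ?_) hsm
            rw [Ideal.mem_comap, IsScalarTower.algebraMap_apply R P B]
            refine Ideal.mem_map_of_mem _ ?_
            show algebraMap P B (algebraMap R P r) ∈ q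
            rw [← IsScalarTower.algebraMap_apply R P B]
            exact hr
          · have := Ideal.mem_map_of_mem (algebraMap P B) (hXp 0)
            rwa [show algebraMap P B (MvPolynomial.X 0) = u from MvPolynomial.aeval_X _ _] at this
          · have := Ideal.mem_map_of_mem (algebraMap P B) (hXp 1)
            rwa [show algebraMap P B (MvPolynomial.X 1) = v from MvPolynomial.aeval_X _ _] at this
        have hu : IsUnit (algebraMap B L (s * (sα * sβ))) :=
          IsLocalization.map_units L (⟨_, Submonoid.mul_mem q.primeCompl hs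
            (Submonoid.mul_mem q.primeCompl (hns _ hsα) (hns _ hsβ))⟩ : q.primeCompl)
        rw [Ideal.mem_comap, ← Ideal.unit_mul_mem_iff_mem _ hu, ← map_mul, IsScalarTower.algebraMap_eq P B L,
          ← Ideal.map_map]
        exact Ideal.mem_map_of_mem _ hmem
  obtain ⟨f, hf, Pp, φ, hφ⟩ := Algebra.IsUnramifiedAt.exists_hasStandardEtaleSurjectionOn (R := P) q
  exact ⟨f, hf, Pp.Ring, inferInstance, inferInstance, inferInstance, φ.toRingHom, hφ, fun F =>
    (φ.commutes F).trans (IsScalarTower.algebraMap_apply P B (Localization.Away f) F)⟩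

end Chart

section Local

variable {R E : Type u} [CommRing R] [CommRing E] [Algebra R E] (p : Ideal R) (Q : Ideal E) [Q.IsPrime]

/-- Membership in an ideal extended to the local fibre ring. -/
theorem exists_of_mem_fibre_map (J : Ideal E) (e : E)
    (h : Ideal.Quotient.mk (p.map (algebraMap R (Localization.AtPrime Q))) (algebraMap E _ e) ∈
      (J.map (algebraMap E (Localization.AtPrime Q))).map
        (Ideal.Quotient.mk (p.map (algebraMap R (Localization.AtPrime Q))))) :
    ∃ s ∉ Q, s * e ∈ J ⊔ p.map (algebraMap R E) := by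
  rw [← Ideal.mem_comap, Ideal.comap_map_of_surjective _ Ideal.Quotient.mk_surjective, ← RingHom.ker_eq_comap_bot,
    Ideal.mk_ker, IsScalarTower.algebraMap_eq R E (Localization.AtPrime Q), ← Ideal.map_map, ← Ideal.map_sup,
    IsLocalization.algebraMap_mem_map_algebraMap_iff Q.primeCompl] at h
  obtain ⟨s, hs, hse⟩ := h
  exact ⟨s, hs, hse⟩

/-- The fibre of a smooth surface at a point where it is etale over the plane at the origin is a regular local ring
of dimension at most two. -/
theorem regular_fibre [p.IsPrime] [Algebra (MvPolynomial (Fin 2) R) E] [IsScalarTower R (MvPolynomial (Fin 2) R) E]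
    [Algebra.Etale (MvPolynomial (Fin 2) R) E] (hp : Q.under R = p)
    (hx : ∀ i, algebraMap (MvPolynomial (Fin 2) R) E (MvPolynomial.X i) ∈ Q) :
    IsRegularLocalRing (Localization.AtPrime Q ⧸ p.map (algebraMap R (Localization.AtPrime Q))) ∧
      ringKrullDim (Localization.AtPrime Q ⧸ p.map (algebraMap R (Localization.AtPrime Q))) ≤ 2 ∧
      maximalIdeal (Localization.AtPrime Q) = p.map (algebraMap R (Localization.AtPrime Q)) ⊔
        Ideal.span (Set.range fun i : Fin 2 =>
          algebraMap E (Localization.AtPrime Q) (algebraMap (MvPolynomial (Fin 2) R) E (MvPolynomial.X i))) := by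
  classical
  let P := MvPolynomial (Fin 2) R
  let L := Localization.AtPrime Q
  let pL := p.map (algebraMap R L)
  let RF := L ⧸ pL
  let p'' := Q.under P
  letI := Localization.AtPrime.algebraOfLiesOver p'' Q
  have hmax := ((Algebra.isUnramifiedAt_iff_map_eq P p'' Q).1 inferInstance).2
  have hle : pL ≤ maximalIdeal L := by
    rw [← Localization.AtPrime.map_eq_maximalIdeal]
    show p.map (algebraMap R L) ≤ _
    rw [IsScalarTower.algebraMap_eq R E L, ← Ideal.map_map]
    exact Ideal.map_mono (Ideal.map_le_iff_le_comap.2 hp.ge)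
  have hne : pL ≠ ⊤ := fun h => (maximalIdeal.isMaximal L).ne_top (top_le_iff.1 (h ▸ hle))
  haveI : Nontrivial RF := Ideal.Quotient.nontrivial_iff.2 hne
  haveI : IsLocalRing RF := IsLocalRing.of_surjective' (Ideal.Quotient.mk pL) Ideal.Quotient.mk_surjective
  have hgen : maximalIdeal L = pL ⊔ Ideal.span (Set.range fun i : Fin 2 =>
      algebraMap E L (algebraMap P E (MvPolynomial.X i))) := by
    refine le_antisymm ?_ (sup_le hle (Ideal.span_le.2 ?_))
    · rw [← hmax, Ideal.map_le_iff_le_comap]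
      intro F hF
      let F₀ : R := MvPolynomial.constantCoeff F
      have hsub : F - MvPolynomial.C F₀ ∈ Ideal.span (Set.range (MvPolynomial.X : Fin 2 → P)) := by
        clear hF
        induction F using MvPolynomial.induction_on with
        | C a => simp [F₀]
        | add F G hF hG => simpa [F₀, add_sub_add_comm] using add_mem hF hG
        | mul_X F i hF => simpa [F₀] using Ideal.mul_mem_left _ F (Ideal.subset_span (Set.mem_range_self i))
      have hI : Ideal.span (Set.range (MvPolynomial.X : Fin 2 → P)) ≤ p'' :=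
        Ideal.span_le.2 fun z ⟨i, hi⟩ => hi ▸ hx i
      have hC : MvPolynomial.C F₀ ∈ p'' := by simpa using sub_mem hF (hI hsub)
      have hF0 : F₀ ∈ p := by
        rw [← hp]
        show algebraMap R E F₀ ∈ Q
        rw [IsScalarTower.algebraMap_apply R P E]
        exact hC
      rw [Ideal.mem_comap, show F = (F - MvPolynomial.C F₀) + MvPolynomial.C F₀ by ring, map_add]
      refine add_mem (Ideal.mem_sup_right ?_) (Ideal.mem_sup_left ?_)
      · have hXspan : Ideal.span (Set.range (MvPolynomial.X : Fin 2 → P)) ≤ Ideal.comap (algebraMap P L)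
            (Ideal.span (Set.range fun i : Fin 2 => algebraMap E L (algebraMap P E (MvPolynomial.X i)))) := by
          rw [← Ideal.map_le_iff_le_comap, Ideal.map_span, Ideal.span_le]
          rintro z ⟨w, ⟨i, rfl⟩, rfl⟩
          exact Ideal.subset_span ⟨i, (IsScalarTower.algebraMap_apply P E L _).symm⟩
        exact hXspan hsub
      · rw [show algebraMap P L (MvPolynomial.C F₀) = algebraMap R L F₀ from
          (IsScalarTower.algebraMap_apply R P L F₀).symm]
        exact Ideal.mem_map_of_mem _ hF0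
    · rintro _ ⟨i, rfl⟩
      rw [← Localization.AtPrime.map_eq_maximalIdeal]
      exact Ideal.mem_map_of_mem _ (hx i)
  let κ := p.ResidueField
  letI : Algebra (R ⧸ p) RF := Ideal.Quotient.algebraQuotientMapQuotient
  haveI : IsScalarTower R (R ⧸ p) RF := IsScalarTower.of_algebraMap_eq fun r => rfl
  have hunit : ∀ z : nonZeroDivisors (R ⧸ p), IsUnit (algebraMap (R ⧸ p) RF z) := by
    rintro ⟨z, hz⟩
    obtain ⟨r, rfl⟩ := Ideal.Quotient.mk_surjective z
    have hr : r ∉ p := fun h => nonZeroDivisors.ne_zero hz (Ideal.Quotient.eq_zero_iff_mem.2 h)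
    have h1 : IsUnit (algebraMap R L r) := by
      rw [IsScalarTower.algebraMap_apply R E L]
      exact IsLocalization.map_units L (⟨algebraMap R E r, fun h => hr (hp ▸ h)⟩ : Q.primeCompl)
    exact h1.map (Ideal.Quotient.mk pL)
  letI : Algebra κ RF := (IsLocalization.lift (M := nonZeroDivisors (R ⧸ p)) hunit).toAlgebra
  haveI : IsScalarTower (R ⧸ p) κ RF :=
    IsScalarTower.of_algebraMap_eq fun z => (IsLocalization.lift_eq hunit z).symm
  haveI : IsScalarTower R κ RF := IsScalarTower.of_algebraMap_eq fun r => by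
    rw [IsScalarTower.algebraMap_apply R (R ⧸ p) κ, ← IsScalarTower.algebraMap_apply (R ⧸ p) κ RF,
      ← IsScalarTower.algebraMap_apply]
  haveI : Algebra.EssFiniteType R E := Algebra.EssFiniteType.comp R P E
  haveI : Algebra.EssFiniteType R L := Algebra.EssFiniteType.comp R E L
  haveI : Algebra.EssFiniteType R RF := Algebra.EssFiniteType.comp R L RF
  haveI : Algebra.EssFiniteType κ RF := Algebra.EssFiniteType.of_comp R κ RF
  haveI : IsNoetherianRing RF := Algebra.EssFiniteType.isNoetherianRing κ RF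
  haveI : Algebra.FormallySmooth P L := Algebra.FormallySmooth.comp P E L
  haveI : Algebra.FormallySmooth R L := Algebra.FormallySmooth.comp R P L
  haveI : Algebra.FormallySmooth (R ⧸ p) RF := CohenLib.formallySmooth_quotient R L p
  haveI : Algebra.FormallySmooth κ RF :=
    Algebra.FormallySmooth.localization_base (R := R ⧸ p) (Rₘ := κ) (Sₘ := RF) (nonZeroDivisors (R ⧸ p))
  haveI : IsRegularLocalRing RF := CohenLib.isRegularLocalRing_of_formallySmooth (k := κ)
  refine ⟨inferInstance, ?_, hgen⟩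
  refine (ringKrullDim_le_spanFinrank_maximalIdeal RF).trans ?_
  have hm : maximalIdeal RF = Ideal.span (Set.range fun i : Fin 2 =>
      Ideal.Quotient.mk pL (algebraMap E L (algebraMap P E (MvPolynomial.X i)))) := by
    rw [← map_maximalIdeal_of_surjective (Ideal.Quotient.mk pL) Ideal.Quotient.mk_surjective, hgen, Ideal.map_sup,
      Ideal.map_quotient_self, bot_sup_eq, Ideal.map_span, ← Set.range_comp]
    rfl
  rw [hm]
  have h2 := Submodule.spanFinrank_span_le_ncard_of_finite (R := RF) (Set.finite_range fun i : Fin 2 =>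
    Ideal.Quotient.mk pL (algebraMap E L (algebraMap P E (MvPolynomial.X i))))
  have h3 : (Set.range fun i : Fin 2 =>
      Ideal.Quotient.mk pL (algebraMap E L (algebraMap P E (MvPolynomial.X i)))).ncard ≤ 2 := by
    rw [← Set.image_univ]
    exact (Set.ncard_image_le Set.finite_univ).trans (by simp)
  exact_mod_cast h2.trans h3

end Local

/-- A ring with a regular element in the maximal ideal has dimension at least one. -/
theorem one_le_ringKrullDim {A : Type u} [CommRing A] [IsLocalRing A] [IsNoetherianRing A] {t : A}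
    (ht : t ∈ maximalIdeal A) (ht' : t ∈ nonZeroDivisors A) : 1 ≤ ringKrullDim A := by
  haveI : Nontrivial (A ⧸ Ideal.span {t}) := Ideal.Quotient.nontrivial_iff.2 fun h =>
    (maximalIdeal.isMaximal A).ne_top (top_le_iff.1 (h ▸ Ideal.span_le.2 (Set.singleton_subset_iff.2 ht)))
  rw [← ringKrullDim_quotient_span_singleton_succ_eq_ringKrullDim_of_mem_jacobson
    (show IsSMulRegular A t from fun a b h => by
      have h' : t * (a - b) = 0 := by rw [mul_sub, sub_eq_zero]; exact h
      exact sub_eq_zero.1 (ht'.1 _ h'))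
    (show t ∈ Ring.jacobson A by
      rw [← Ideal.jacobson_bot, IsLocalRing.jacobson_eq_maximalIdeal _ bot_ne_top]; exact ht)]
  exact le_add_of_nonneg_left ringKrullDim_nonneg_of_nontrivial

/-- An ideal with at most one generator is principal. -/
theorem exists_span_singleton_of_spanFinrank_le_one {A : Type u} [CommRing A] [IsNoetherianRing A] (I : Ideal A)
    (h : I.spanFinrank ≤ 1) : ∃ g, I = Ideal.span {g} := by
  obtain ⟨y, hy⟩ := CIRingLib.exists_range_eq I
  revert y hy
  generalize I.spanFinrank = n at h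
  intro y hy
  interval_cases n
  · exact ⟨0, by rw [← hy, Set.range_eq_empty y, Ideal.span_empty, Ideal.span_singleton_eq_bot.2 rfl]⟩
  · refine ⟨y 0, ?_⟩
    rw [← hy]
    congr 1
    ext z
    simp [Fin.exists_fin_one, eq_comm]

/-- The equation of the node in the chart. -/
theorem exists_equation {R E B₁ A : Type u} [CommRing R] [CommRing E] [CommRing B₁] [CommRing A]
    [Algebra R E] [Algebra R B₁] [Algebra.FinitePresentation R E] [Algebra.FinitePresentation R B₁]
    [Module.Flat R B₁]
    [Algebra (MvPolynomial (Fin 2) R) E] [IsScalarTower R (MvPolynomial (Fin 2) R) E]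
    [Algebra.Etale (MvPolynomial (Fin 2) R) E]
    [IsLocalRing A] [IsNoetherianRing A]
    (φ : E →ₐ[R] B₁) (hφ : Function.Surjective φ) (π : B₁ →+* A)
    (p : Ideal R) [p.IsPrime] (hp : (maximalIdeal A).comap (π.comp (algebraMap R B₁)) = p)
    (hker : ∀ b, π b = 0 ↔ ∃ s, IsUnit (π s) ∧ s * b ∈ p.map (algebraMap R B₁))
    (hloc : ∀ z, ∃ b s, IsUnit (π s) ∧ z * π s = π b)
    (hCI : Pi1.IsCompleteIntersection A) (x : Fin 2 → E)
    (hxX : ∀ i, x i = algebraMap (MvPolynomial (Fin 2) R) E (MvPolynomial.X i))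
    (hxm : maximalIdeal A = Ideal.span {π (φ (x 0)), π (φ (x 1))})
    (hind : ∀ c r : A, c * π (φ (x 0)) + r * π (φ (x 1)) ∈ maximalIdeal A ^ 2 → c ∈ maximalIdeal A ∧ r ∈ maximalIdeal A)
    (a b c : E) (hd : IsUnit (π (φ (4 * a * c - b ^ 2))))
    (hqf : π (φ (qf a b c (x 0) (x 1))) ∈ maximalIdeal A ^ 3)
    (ht : ∃ t ∈ maximalIdeal A, t ∈ nonZeroDivisors A)
    (bE : Module.Basis (Fin 2) E Ω[E⁄R]) (hb : ∀ i, bE i = D R E (x i)) :
    ∃ g d : E, φ g = 0 ∧ (∀ k, φ k = 0 → d * k ∈ Ideal.span {g}) ∧ IsUnit (π (φ d)) ∧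
      (∀ i, ¬ IsUnit (π (φ (coordDer bE i g)))) ∧
      IsUnit (π (φ (Matrix.of fun i j => coordDer bE i (coordDer bE j g)).det)) := by
  classical
  let ψ : E →+* A := π.comp φ.toRingHom
  let Q : Ideal E := (maximalIdeal A).comap ψ
  haveI : Q.IsPrime := Ideal.IsPrime.comap _
  have hQu : ∀ e, e ∉ Q ↔ IsUnit (ψ e) := fun e => by
    simp only [Q, Ideal.mem_comap, IsLocalRing.notMem_maximalIdeal]
  have hψker : ∀ e, ψ e = 0 → ∃ s ∉ Q, s * e ∈ RingHom.ker φ.toRingHom ⊔ p.map (algebraMap R E) := fun e he => by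
    obtain ⟨s₀, hs₀, hmem⟩ := (hker (φ e)).1 he
    obtain ⟨s, rfl⟩ := hφ s₀
    refine ⟨s, (hQu s).2 hs₀, ?_⟩
    rw [sup_comm, show RingHom.ker φ.toRingHom = (⊥ : Ideal B₁).comap φ.toRingHom from RingHom.ker_eq_comap_bot _,
      ← Ideal.comap_map_of_surjective φ.toRingHom hφ, Ideal.mem_comap, Ideal.map_map]
    show φ (s * e) ∈ _
    rw [map_mul, show φ.toRingHom.comp (algebraMap R E) = algebraMap R B₁ from φ.comp_algebraMap]
    exact hmem
  have hpQ : Q.under R = p := by
    rw [← hp]
    ext r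
    show π (φ (algebraMap R E r)) ∈ maximalIdeal A ↔ π (algebraMap R B₁ r) ∈ maximalIdeal A
    rw [φ.commutes]
  have hxQ : ∀ i, x i ∈ Q := fun i => by
    show π (φ (x i)) ∈ maximalIdeal A
    rw [hxm]
    fin_cases i <;> exact Ideal.subset_span (by simp)
  obtain ⟨hreg, hdim, hgen⟩ := regular_fibre p Q hpQ fun i => hxX i ▸ hxQ i
  let L := Localization.AtPrime Q
  let pL := p.map (algebraMap R L)
  let RF := L ⧸ pL
  haveI := hreg
  let mkF : L →+* RF := Ideal.Quotient.mk pL
  let ψL : L →+* A := IsLocalization.lift (M := Q.primeCompl) (S := L) (g := ψ) fun s => (hQu _).1 s.2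
  have hψL : ∀ e, ψL (algebraMap E L e) = ψ e := fun e => IsLocalization.lift_eq _ _
  have hpz : ∀ z ∈ pL, ψL z = 0 := fun z hz => by
    have : pL ≤ RingHom.ker ψL := by
      rw [Ideal.map_le_iff_le_comap]
      intro r hr
      rw [Ideal.mem_comap, RingHom.mem_ker, IsScalarTower.algebraMap_apply R E L, hψL]
      show π (φ (algebraMap R E r)) = 0
      rw [φ.commutes]
      exact (hker _).2 ⟨1, by simp, by rw [one_mul]; exact Ideal.mem_map_of_mem _ hr⟩
    exact this hz
  let ψF : RF →+* A := Ideal.Quotient.lift pL ψL hpz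
  have hψF : ∀ e, ψF (mkF (algebraMap E L e)) = ψ e := hψL
  have hψFs : Function.Surjective ψF := fun z => by
    obtain ⟨b₀, s₀, hs, h⟩ := hloc z
    obtain ⟨e, rfl⟩ := hφ b₀
    obtain ⟨s, rfl⟩ := hφ s₀
    refine ⟨mkF (IsLocalization.mk' L e (⟨s, (hQu s).2 hs⟩ : Q.primeCompl)), ?_⟩
    refine hs.mul_left_injective ?_
    show ψF (mkF _) * π (φ s) = z * π (φ s)
    rw [h, ← show ψF (mkF (algebraMap E L s)) = π (φ s) from hψF s, ← map_mul, ← map_mul,
      IsLocalization.mk'_spec L e (⟨s, (hQu s).2 hs⟩ : Q.primeCompl)]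
    exact hψF e
  obtain ⟨t₀, ht₀, ht₀'⟩ := ht
  have hle := (TransLib.hasRegKer_iff hψFs).1 ((CIRingLib.isCompleteIntersection_iff ψF hψFs).1 hCI)
  obtain ⟨gF, hgF⟩ : ∃ gF, RingHom.ker ψF = Ideal.span {gF} := by
    refine exists_span_singleton_of_spanFinrank_le_one _ ?_
    by_contra hgt
    have h2 : (2 : WithBot ℕ∞) ≤ ((RingHom.ker ψF).spanFinrank : WithBot ℕ∞) := by
      exact_mod_cast (show 2 ≤ (RingHom.ker ψF).spanFinrank by omega)
    have := ((add_le_add (one_le_ringKrullDim ht₀ ht₀') h2).trans hle).trans hdim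
    exact absurd this (by decide)
  obtain ⟨g, hg, hkerF⟩ : ∃ g, φ g = 0 ∧ RingHom.ker ψF = Ideal.span {mkF (algebraMap E L g)} := by
    obtain ⟨gL, rfl⟩ := Ideal.Quotient.mk_surjective gF
    obtain ⟨g₁, s₁, rfl⟩ := IsLocalization.exists_mk'_eq Q.primeCompl gL
    have hg₁ : ψ g₁ = 0 := by
      have h0 : ψF (mkF (IsLocalization.mk' L g₁ s₁)) = 0 := hgF.ge (Ideal.mem_span_singleton_self _)
      rw [← hψF, ← IsLocalization.mk'_spec L g₁ s₁, map_mul, map_mul, h0, zero_mul]
    obtain ⟨s, hs, hmem⟩ := hψker g₁ hg₁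
    obtain ⟨g, hg, z, hz, hgz⟩ := Submodule.mem_sup.1 hmem
    refine ⟨g, hg, ?_⟩
    have hz' : mkF (algebraMap E L z) = 0 := by
      refine Ideal.Quotient.eq_zero_iff_mem.2 ((Ideal.map_le_iff_le_comap.2 fun r hr => ?_) hz :
        z ∈ Ideal.comap (algebraMap E L) pL)
      rw [Ideal.mem_comap, Ideal.mem_comap, ← IsScalarTower.algebraMap_apply R E L]
      exact Ideal.mem_map_of_mem _ hr
    have : mkF (algebraMap E L g) = mkF (algebraMap E L s * algebraMap E L s₁) * mkF (IsLocalization.mk' L g₁ s₁) := by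
      rw [← map_mul, mul_assoc, mul_comm (algebraMap E L s₁), IsLocalization.mk'_spec, ← map_mul, ← hgz, map_add,
        map_add, hz', add_zero]
    rw [hgF, this, Ideal.span_singleton_mul_left_unit]
    exact ((IsLocalization.map_units L (⟨s, hs⟩ : Q.primeCompl)).mul (IsLocalization.map_units L s₁)).map mkF
  let K := RingHom.ker φ.toRingHom
  have hKfg : K.FG := Algebra.FinitePresentation.ker_fG_of_surjective φ hφ
  have hgK : g ∈ K := hg
  have hQK : K ≤ Q := fun k hk => by
    show π (φ k) ∈ maximalIdeal A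
    rw [show φ k = 0 from hk, map_zero]
    exact zero_mem _
  have hKL : K.map (algebraMap E L) ≤ Ideal.span {algebraMap E L g} := by
    refine Submodule.le_of_le_smul_of_le_jacobson_bot (hKfg.map _) (maximalIdeal_le_jacobson _) ?_
    rw [Ideal.map_le_iff_le_comap]
    intro k hk
    have hk0 : mkF (algebraMap E L k) ∈ RingHom.ker ψF := by
      rw [RingHom.mem_ker, hψF]
      show π (φ k) = 0
      rw [show φ k = 0 from hk, map_zero]
    rw [hkerF, Ideal.mem_span_singleton'] at hk0
    obtain ⟨lF, hl⟩ := hk0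
    obtain ⟨l, rfl⟩ := Ideal.Quotient.mk_surjective lF
    obtain ⟨e, s, rfl⟩ := IsLocalization.exists_mk'_eq Q.primeCompl l
    have hmem : mkF (algebraMap E L (s * k - g * e)) = 0 := by
      rw [map_sub, map_mul, map_mul, map_sub, map_mul, map_mul, ← hl, sub_eq_zero,
        ← IsLocalization.mk'_spec L e s, map_mul]
      ring
    have h0 : mkF (algebraMap E L (s * k - g * e)) ∈ ((⊥ : Ideal E).map (algebraMap E L)).map mkF := by
      rw [hmem]; exact zero_mem _
    obtain ⟨s', hs', hs'm⟩ := exists_of_mem_fibre_map p Q ⊥ _ h0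
    rw [bot_sup_eq] at hs'm
    have hKm := CIRingLib.ker_inf_map_le φ hφ p (⟨Ideal.mul_mem_left _ _ (sub_mem (Ideal.mul_mem_left _ _ hk)
      (Ideal.mul_mem_right _ _ hgK)), hs'm⟩ :
        s' * (s * k - g * e) ∈ RingHom.ker φ.toRingHom ⊓ p.map (algebraMap R E))
    have hu : IsUnit (algebraMap E L (s' * s)) :=
      IsLocalization.map_units L (⟨_, Submonoid.mul_mem Q.primeCompl hs' s.2⟩ : Q.primeCompl)
    rw [Ideal.mem_comap, ← Ideal.unit_mul_mem_iff_mem _ hu, ← map_mul,
      show s' * s * k = g * (s' * e) + s' * (s * k - g * e) by ring, map_add]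
    refine add_mem (Ideal.mem_sup_left ?_) (Ideal.mem_sup_right ?_)
    · rw [map_mul]
      exact Ideal.mul_mem_right _ _ (Ideal.mem_span_singleton_self _)
    · have h3 := Ideal.mem_map_of_mem (algebraMap E L) hKm
      rw [Ideal.map_mul, Ideal.map_map, ← IsScalarTower.algebraMap_eq] at h3
      refine Ideal.mul_mono ?_ le_rfl h3
      rw [hgen]
      exact le_sup_left
  obtain ⟨d, hdQ, hdK⟩ : ∃ d ∉ Q, ∀ k ∈ K, d * k ∈ Ideal.span {g} := by
    obtain ⟨S, hS⟩ := hKfg
    have : ∀ k : S, ∃ s ∉ Q, s * k.1 ∈ Ideal.span {g} := fun k => by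
      have h := hKL (Ideal.mem_map_of_mem _ (hS.le (Submodule.subset_span k.2)))
      rw [← Set.image_singleton, ← Ideal.map_span, IsLocalization.algebraMap_mem_map_algebraMap_iff Q.primeCompl] at h
      exact h
    choose s hs hsk using this
    refine ⟨∏ k, s k, fun h => ?_, fun k hk => ?_⟩
    · obtain ⟨k, -, hk⟩ := (Ideal.IsPrime.prod_mem_iff (p := Q)).1 h
      exact hs k hk
    · rw [← hS] at hk
      induction hk using Submodule.span_induction with
      | mem z hz =>
        obtain ⟨r, hr⟩ := Finset.dvd_prod_of_mem s (Finset.mem_univ (⟨z, hz⟩ : S))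
        rw [hr, mul_comm (s _) r, mul_assoc]
        exact Ideal.mul_mem_left _ _ (hsk ⟨z, hz⟩)
      | zero => simp
      | add y y' _ _ hy hy' => rw [mul_add]; exact add_mem hy hy'
      | smul r y _ hy => rw [smul_eq_mul, mul_left_comm]; exact Ideal.mul_mem_left _ _ hy
  let χ : E →+* ResidueField A := (residue A).comp ψ
  have hχQ : RingHom.ker χ = Q := by
    ext e
    show residue A (ψ e) = 0 ↔ _
    rw [residue_eq_zero_iff]
    rfl
  have hχu : ∀ e, χ e ≠ 0 ↔ IsUnit (ψ e) := fun e => IsLocalRing.residue_ne_zero_iff_isUnit _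
  have hχp : ∀ z ∈ p.map (algebraMap R E), χ z = 0 := fun z hz => by
    rw [← RingHom.mem_ker, hχQ]
    exact Ideal.map_le_iff_le_comap.2 hpQ.ge hz
  have hmF : maximalIdeal RF = (Q.map (algebraMap E L)).map mkF := by
    rw [Localization.AtPrime.map_eq_maximalIdeal]
    exact (map_maximalIdeal_of_surjective mkF Ideal.Quotient.mk_surjective).symm
  have hDg : ∀ i, χ (coordDer bE i g) = 0 := fun i => by
    have hg2 : mkF (algebraMap E L g) ∈ ((Q ^ 2).map (algebraMap E L)).map mkF := by
      have hgQ : mkF (algebraMap E L g) ∈ maximalIdeal RF := by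
        rw [hmF]; exact Ideal.mem_map_of_mem _ (Ideal.mem_map_of_mem _ (hQK hgK))
      rw [← map_maximalIdeal_of_surjective mkF Ideal.Quotient.mk_surjective, hgen, Ideal.map_sup,
        Ideal.map_quotient_self, bot_sup_eq, Ideal.map_span, ← Set.range_comp, Ideal.mem_span_range_iff_exists_fun] at hgQ
      obtain ⟨co, hco⟩ := hgQ
      rw [Fin.sum_univ_two] at hco
      have h0 : ψF (co 0) * π (φ (x 0)) + ψF (co 1) * π (φ (x 1)) = 0 := by
        have := congrArg ψF hco
        simp only [Function.comp_apply, map_add, map_mul, hψF, ← hxX] at this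
        rw [show ψ g = 0 by show π (φ g) = 0; rw [hg, map_zero]] at this
        refine Eq.trans ?_ this
        rw [show ψF (mkF (algebraMap E (Localization.AtPrime Q) (x 0))) = π (φ (x 0)) from hψF _,
          show ψF (mkF (algebraMap E (Localization.AtPrime Q) (x 1))) = π (φ (x 1)) from hψF _]
      obtain ⟨h1, h2⟩ := hind _ _ (h0 ▸ zero_mem _)
      have hloc' : ∀ z, ψF z ∈ maximalIdeal A → z ∈ maximalIdeal RF := fun z hz =>
        (mem_maximalIdeal z).2 fun hu => (mem_maximalIdeal _).1 hz (hu.map ψF)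
      rw [← hco, Ideal.map_pow, Ideal.map_pow, ← hmF, pow_two]
      refine add_mem (Ideal.mul_mem_mul (hloc' _ h1) ?_) (Ideal.mul_mem_mul (hloc' _ h2) ?_) <;>
        (rw [hmF]; simp only [Function.comp_apply, ← hxX];
         exact Ideal.mem_map_of_mem _ (Ideal.mem_map_of_mem _ (hxQ _)))
    obtain ⟨s, hs, hsg⟩ := exists_of_mem_fibre_map p Q _ g hg2
    obtain ⟨y, hy, z, hz, hyz⟩ := Submodule.mem_sup.1 hsg
    have h := congrArg (fun e => χ (coordDer bE i e)) hyz
    simp only [map_add, Derivation.leibniz, smul_eq_mul, map_mul, der_sq χ _ (hχQ.symm ▸ hy),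
      hχp _ (der_mem_map _ p hz), show χ g = 0 from RingHom.mem_ker.1 (hχQ.ge (hQK hgK)), add_zero, zero_mul] at h
    exact (mul_eq_zero.1 h.symm).resolve_left ((hχu s).2 ((hQu s).1 hs))
  have hqF : mkF (algebraMap E L (qf a b c (x 0) (x 1))) ∈
      ((Q ^ 3 ⊔ Ideal.span {g}).map (algebraMap E L)).map mkF := by
    rw [Ideal.map_sup, Ideal.map_sup, Ideal.map_pow, Ideal.map_pow, ← hmF, Ideal.map_span, Ideal.map_span,
      Set.image_singleton, Set.image_singleton, ← hkerF, RingHom.ker_eq_comap_bot, ← Ideal.comap_map_of_surjective ψF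
      hψFs, Ideal.mem_comap, Ideal.map_pow, map_maximalIdeal_of_surjective ψF hψFs, hψF]
    exact hqf
  obtain ⟨s, hs, hsq⟩ := exists_of_mem_fibre_map p Q _ _ hqF
  obtain ⟨w, hw, z, hz, hwz⟩ := Submodule.mem_sup.1 hsq
  obtain ⟨y, hy, tg, htg, hyt⟩ := Submodule.mem_sup.1 hw
  obtain ⟨t, rfl⟩ := Ideal.mem_span_singleton'.1 htg
  have hx0 : ∀ i, χ (x i) = 0 := fun i => RingHom.mem_ker.1 (hχQ.ge (hxQ i))
  have hH : ∀ i j, qfPolar (χ (s * a)) (χ (s * b)) (χ (s * c)) (if i = 0 then 1 else 0) (if i = 1 then 1 else 0)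
      (if j = 0 then 1 else 0) (if j = 1 then 1 else 0) = χ t * χ (coordDer bE i (coordDer bE j g)) := fun i j => by
    have h := der_der_qf χ (coordDer bE i) (coordDer bE j) (s * a) (s * b) (s * c) (x 0) (x 1) (hx0 0) (hx0 1)
    simp only [coordDer_self bE x hb, apply_ite χ, map_one, map_zero] at h
    rw [← h, show qf (s * a) (s * b) (s * c) (x 0) (x 1) = y + t * g + z by rw [hyt, hwz]; simp only [qf]; ring]
    simp only [map_add, der_der_cube χ _ _ y (hχQ.symm ▸ hy), hχp _ (der_mem_map _ p (der_mem_map _ p hz)),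
      der_der_mul χ _ _ t g (RingHom.mem_ker.1 (hχQ.ge (hQK hgK))) (hDg i) (hDg j), zero_add, add_zero]
  refine ⟨g, d, hg, fun k hk => hdK k hk, (hQu d).1 hdQ,
    fun i hu => (hχu _).2 hu (hDg i), (hχu _).1 fun h => ?_⟩
  have hsu : χ s ≠ 0 := (hχu s).2 ((hQu s).1 hs)
  have hdisc : χ s ^ 2 * χ (4 * a * c - b ^ 2) = χ t ^ 2 * χ (Matrix.of fun i j => coordDer bE i (coordDer bE j g)).det := by
    rw [Matrix.det_fin_two]
    have h00 := hH 0 0
    have h01 := hH 0 1
    have h10 := hH 1 0
    have h11 := hH 1 1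
    simp [qfPolar] at h00 h01 h10 h11
    simp only [Matrix.of_apply, map_sub, map_mul, map_pow, map_ofNat]
    linear_combination (2 * χ s * χ c) * h00 + (χ t * χ (coordDer bE 0 (coordDer bE 0 g))) * h11 -
      (χ s * χ b) * h01 - (χ t * χ (coordDer bE 0 (coordDer bE 1 g))) * h10
  rw [h, mul_zero] at hdisc
  exact mul_ne_zero (pow_ne_zero 2 hsu) ((hχu _).2 hd) hdisc

end NodalLib.NodeEtale

end
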