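import Groth.Agent.NodalLib.NodeEtale.Morse
import Groth.Agent.NodalLib.NodeEtale.Chart
import Groth.Agent.AlgSpLib.EtaleQuot
import Mathlib.AlgebraicGeometry.Pullbacks

/-!
# Etale local structure of a flat family at a quadratic node
-/

set_option autoImplicit false
set_option linter.unusedSectionVars false
set_option linter.style.haveILetI false
set_option maxHeartbeats 2000000
set_option synthInstance.maxHeartbeats 200000
set_option backward.isDefEq.respectTransparency false
set_option backward.isDefEq.respectTransparency.types false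

universe u

open IsLocalRing KaehlerDifferential CategoryTheory CategoryTheory.Limits

noncomputable section

namespace NodalLib.NodeEtale

/-- The equation `xy + h`. -/
abbrev nodeEq {R : Type u} [CommRing R] (h : R) : Ideal (MvPolynomial (Fin 2) R) :=
  Ideal.span {MvPolynomial.X 0 * MvPolynomial.X 1 + MvPolynomial.C h}

/-- A flat family at a quadratic node is etale locally `xy + h = 0`. -/
theorem exists_local_structure {R B A : Type u} [CommRing R] [CommRing B] [Algebra R B]
    [Algebra.FinitePresentation R B] [Module.Flat R B] [CommRing A] [IsLocalRing A] [IsNoetherianRing A]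
    (q : Ideal B) [q.IsPrime] (π : B →+* A) (hq : (maximalIdeal A).comap π = q)
    (hloc : ∀ z, ∃ b s, IsUnit (π s) ∧ z * π s = π b)
    (hker : ∀ b, π b = 0 ↔ ∃ s ∉ q, s * b ∈ (q.under R).map (algebraMap R B))
    (hsep : Algebra.FormallyUnramified R q.ResidueField) (hQ : QNode A) (hCI : Pi1.IsCompleteIntersection A) :
    ∃ (R' : Type u) (_ : CommRing R') (γ : R →+* R') (h : R') (U : Type u) (_ : CommRing U) (β : B →+* U)
      (α : MvPolynomial (Fin 2) R' ⧸ nodeEq h →+* U),
      γ.Etale ∧ β.Etale ∧ α.Etale ∧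
      β.comp (algebraMap R B) = (α.comp ((Ideal.Quotient.mk _).comp MvPolynomial.C)).comp γ ∧
      ∃ P : PrimeSpectrum U, P.asIdeal.comap β = q := by
  classical
  obtain ⟨u, v, a₀, b₀, c₀, huv, hind, hd, hqf, ht⟩ := qnode_coords π hloc hQ
  obtain ⟨f, hf, E, _, _, _, φ₀, hφ₀, hφX⟩ := exists_surjection q π hq hloc hker hsep u v huv
  have hnq : ∀ s, s ∉ q ↔ IsUnit (π s) := fun s => by
    rw [← hq, Ideal.mem_comap, IsLocalRing.notMem_maximalIdeal]
  let P := MvPolynomial (Fin 2) R
  let B₁ := Localization.Away f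
  letI : Algebra R E := ((algebraMap P E).comp (algebraMap R P)).toAlgebra
  haveI : IsScalarTower R P E := IsScalarTower.of_algebraMap_eq fun _ => rfl
  haveI : Algebra.Smooth R P := ⟨inferInstance, inferInstance⟩
  haveI : Algebra.Smooth R E := Algebra.Smooth.comp R P E
  haveI : Algebra.FinitePresentation B B₁ := IsLocalization.Away.finitePresentation f
  haveI : Algebra.FinitePresentation R B₁ := Algebra.FinitePresentation.trans R B B₁
  haveI : Module.Flat B B₁ := IsLocalization.flat B₁ (Submonoid.powers f)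
  haveI : Module.Flat R B₁ := Module.Flat.trans R B B₁
  have hφR : ∀ r, φ₀ (algebraMap R E r) = algebraMap R B₁ r := fun r => by
    show φ₀ (algebraMap P E (MvPolynomial.C r)) = _
    rw [hφX, MvPolynomial.aeval_C, ← IsScalarTower.algebraMap_apply]
  let φ : E →ₐ[R] B₁ := { φ₀ with commutes' := hφR }
  let π₁ : B₁ →+* A := IsLocalization.Away.lift f (g := π) ((hnq f).1 hf)
  have hπ₁ : ∀ b, π₁ (algebraMap B B₁ b) = π b := fun b => IsLocalization.Away.lift_eq _ _ _
  let p := q.under R
  let x : Fin 2 → E := fun i => algebraMap P E (MvPolynomial.X i)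
  let bE : Module.Basis (Fin 2) E Ω[E⁄R] := basisOfEtale (KaehlerDifferential.mvPolynomialBasis R (Fin 2)) E
  have hb : ∀ i, bE i = D R E (x i) :=
    basisOfEtale_apply _ (fun i => MvPolynomial.X i) (fun i => KaehlerDifferential.mvPolynomialBasis_apply R _ i) E
  have hx : ∀ i, π₁ (φ (x i)) = π (![u, v] i) := fun i => by
    show π₁ (φ₀ (algebraMap P E (MvPolynomial.X i))) = _
    rw [hφX, MvPolynomial.aeval_X, hπ₁]
  obtain ⟨a, ha⟩ := hφ₀ (algebraMap B B₁ a₀)
  obtain ⟨b, hb'⟩ := hφ₀ (algebraMap B B₁ b₀)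
  obtain ⟨c, hc⟩ := hφ₀ (algebraMap B B₁ c₀)
  have hπa : π₁ (φ a) = π a₀ := by rw [← hπ₁ a₀, ← ha]; rfl
  have hπb : π₁ (φ b) = π b₀ := by rw [← hπ₁ b₀, ← hb']; rfl
  have hπc : π₁ (φ c) = π c₀ := by rw [← hπ₁ c₀, ← hc]; rfl
  obtain ⟨g, d, hg, hdK, hdu, hDg, hH⟩ := exists_equation φ hφ₀ π₁ p (by
      rw [IsScalarTower.algebraMap_eq R B B₁, ← RingHom.comp_assoc, ← Ideal.comap_comap]
      show ((maximalIdeal A).comap (π₁.comp (algebraMap B B₁))).comap (algebraMap R B) = _
      rw [show π₁.comp (algebraMap B B₁) = π from RingHom.ext hπ₁, hq])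
    (fun z => by
      obtain ⟨⟨b, s⟩, hz⟩ := IsLocalization.surj (M := Submonoid.powers f) z
      have hsu : IsUnit (π₁ (algebraMap B B₁ s)) := (IsLocalization.map_units B₁ s).map π₁
      constructor
      · intro h0
        have hb0 : π b = 0 := by rw [← hπ₁, ← hz, map_mul, h0, zero_mul]
        obtain ⟨t, ht, htb⟩ := (hker b).1 hb0
        refine ⟨algebraMap B B₁ (t * s), ?_, ?_⟩
        · rw [map_mul, map_mul, hπ₁]
          exact ((hnq t).1 ht).mul hsu
        · have := Ideal.mem_map_of_mem (algebraMap B B₁) htb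
          rw [Ideal.map_map, ← IsScalarTower.algebraMap_eq] at this
          rw [map_mul, mul_assoc, mul_comm _ z, hz, ← map_mul]
          exact this
      · rintro ⟨t, ht, htz⟩
        have hp0 : p.map (algebraMap R B₁) ≤ RingHom.ker π₁ := by
          rw [Ideal.map_le_iff_le_comap]
          intro r hr
          rw [Ideal.mem_comap, RingHom.mem_ker, IsScalarTower.algebraMap_apply R B B₁, hπ₁]
          exact (hker _).2 ⟨1, fun h => q.ne_top_iff_one.1 (Ideal.IsPrime.ne_top inferInstance) h,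
            by rw [one_mul]; exact Ideal.mem_map_of_mem _ hr⟩
        have := hp0 htz
        rw [RingHom.mem_ker, map_mul] at this
        exact ht.mul_right_eq_zero.1 this)
    (fun z => by
      obtain ⟨b, s, hs, hz⟩ := hloc z
      exact ⟨algebraMap B B₁ b, algebraMap B B₁ s, by rwa [hπ₁], by rwa [hπ₁, hπ₁]⟩)
    hCI x (fun i => rfl) (by rw [hx, hx]; exact huv)
    (fun c r h => by rw [hx, hx] at h; exact hind c r h) a b c
    (by simpa [hπa, hπb, hπc, map_ofNat] using hd)
    (by simpa [qf, hπa, hπb, hπc, hx] using hqf) ht bE hb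
  let K := AlgebraicClosure (ResidueField A)
  let κ₁ : B₁ →+* K := (algebraMap (ResidueField A) K).comp ((residue A).comp π₁)
  let κ : E →+* K := κ₁.comp φ.toRingHom
  have hκ : ∀ e, κ e = 0 ↔ ¬ IsUnit (π₁ (φ e)) := fun e => by
    show algebraMap (ResidueField A) K (residue A (π₁ (φ e))) = 0 ↔ _
    rw [map_eq_zero_iff _ (algebraMap (ResidueField A) K).injective, residue_eq_zero_iff]
    rfl
  obtain ⟨R', _, _, _, h, E₃, _, _, φ₃, χ, pq, hφ₃, hcomm, hχ, hd3, hpq, hg3⟩ :=
    exists_morse x bE hb g d κ (fun h0 => (hκ d).1 h0 hdu) (fun i => (hκ _).2 (hDg i))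
      (fun h0 => (hκ _).1 h0 hH)
  let J : Ideal E₃ := Ideal.span {φ₃ g}
  have hKJ : (RingHom.ker φ.toRingHom).map φ₃ = J := by
    refine le_antisymm (Ideal.map_le_iff_le_comap.2 fun k hk => ?_)
      (Ideal.span_le.2 (Set.singleton_subset_iff.2 (Ideal.mem_map_of_mem _ hg)))
    rw [Ideal.mem_comap, ← Ideal.unit_mul_mem_iff_mem _ hd3, ← map_mul]
    obtain ⟨r, hr⟩ := Ideal.mem_span_singleton'.1 (hdK k hk)
    rw [← hr, map_mul]
    exact Ideal.mul_mem_left _ _ (Ideal.mem_span_singleton_self _)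
  let U := E₃ ⧸ J
  let e₁ := RingHom.quotientKerEquivOfSurjective (f := φ.toRingHom) hφ₀
  let e₂ := Ideal.quotEquivOfEq hKJ
  let β : B →+* U := ((e₂.toRingHom.comp (Ideal.quotientMap _ φ₃ Ideal.le_comap_map)).comp
    e₁.symm.toRingHom).comp (algebraMap B B₁)
  have hβ : ∀ b e, φ e = algebraMap B B₁ b → β b = Ideal.Quotient.mk J (φ₃ e) := fun b e he => by
    show e₂ (Ideal.quotientMap _ φ₃ Ideal.le_comap_map (e₁.symm (algebraMap B B₁ b))) = _
    rw [← he, show e₁.symm (φ e) = Ideal.Quotient.mk _ e from e₁.symm_apply_eq.2 rfl, Ideal.quotientMap_mk]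
    exact Ideal.quotEquivOfEq_mk hKJ _
  let ev := MvPolynomial.aeval (R := R') pq
  have hMJ : (nodeEq h).map ev.toRingHom = J := by
    rw [Ideal.map_span, Set.image_singleton]
    show Ideal.span {ev _} = Ideal.span {φ₃ g}
    rw [map_add, map_mul, MvPolynomial.aeval_X, MvPolynomial.aeval_X, MvPolynomial.aeval_C, hg3]
  let e₃ := Ideal.quotEquivOfEq hMJ
  let α : MvPolynomial (Fin 2) R' ⧸ nodeEq h →+* U :=
    e₃.toRingHom.comp (Ideal.quotientMap _ ev.toRingHom Ideal.le_comap_map)
  let χU : U →+* K := Ideal.Quotient.lift J χ fun z hz => by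
    obtain ⟨r, rfl⟩ := Ideal.mem_span_singleton'.1 hz
    rw [map_mul, show χ (φ₃ g) = κ g from congrArg (fun f : E →+* K => f g) hχ]
    show χ r * κ₁ (φ g) = 0
    rw [hg, map_zero, mul_zero]
  refine ⟨R', inferInstance, algebraMap R R', h, U, inferInstance, β, α, RingHom.etale_algebraMap.2 inferInstance,
    ?_, ?_, ?_, ⟨RingHom.ker χU, RingHom.ker_isPrime χU⟩, ?_⟩
  · exact RingHom.Etale.stableUnderComposition _ _
      (RingHom.etale_algebraMap.2 (Algebra.Etale.of_isLocalizationAway f))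
      (RingHom.Etale.stableUnderComposition _ _ (RingHom.Etale.of_bijective e₁.symm.bijective)
        (RingHom.Etale.stableUnderComposition _ _ (AlgSpLib.etale_quotientMap φ₃ hφ₃ _)
          (RingHom.Etale.of_bijective e₂.bijective)))
  · exact RingHom.Etale.stableUnderComposition _ _ (AlgSpLib.etale_quotientMap ev.toRingHom hpq _)
      (RingHom.Etale.of_bijective e₃.bijective)
  · ext r
    show β (algebraMap R B r) = e₃ (Ideal.quotientMap _ ev.toRingHom Ideal.le_comap_map
      (Ideal.Quotient.mk _ (MvPolynomial.C (algebraMap R R' r))))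
    rw [hβ _ (algebraMap R E r) (by rw [φ.commutes, ← IsScalarTower.algebraMap_apply]), Ideal.quotientMap_mk, hcomm]
    refine Eq.trans ?_ (Ideal.quotEquivOfEq_mk hMJ _).symm
    exact congrArg (Ideal.Quotient.mk J) (MvPolynomial.aeval_C pq _).symm
  · ext b
    obtain ⟨e, he⟩ := hφ₀ (algebraMap B B₁ b)
    show χU (β b) = 0 ↔ b ∈ q
    rw [hβ b e he]
    show χ (φ₃ e) = 0 ↔ _
    rw [show χ (φ₃ e) = κ e from congrArg (fun f : E →+* K => f e) hχ, hκ, show φ e = algebraMap B B₁ b from he,
      hπ₁, ← hnq, not_not]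

/-- Ring maps out of the integers are unique. -/
theorem ulift_int_ext {T : Type*} [CommRing T] (f g : ULift.{u} ℤ →+* T) : f = g := by
  refine RingHom.ext fun z => ?_
  obtain ⟨n⟩ := z
  rw [show (⟨n⟩ : ULift.{u} ℤ) = ((n : ℤ) : ULift.{u} ℤ) from rfl, map_intCast, map_intCast]

section Model

/-- The base of the universal node. -/
abbrev ModelBase : Type u := MvPolynomial (Fin 1) (ULift.{u} ℤ)

/-- The universal node. -/
abbrev Model : Type u :=
  MvPolynomial (Fin 3) (ULift.{u} ℤ) ⧸ Ideal.span {(MvPolynomial.X 0 * MvPolynomial.X 1 - MvPolynomial.X 2 :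
    MvPolynomial (Fin 3) (ULift.{u} ℤ))}

/-- The parameter of the universal node. -/
abbrev modelMap : ModelBase.{u} →+* Model.{u} :=
  (Ideal.Quotient.mk _).comp
    (MvPolynomial.aeval (fun _ : Fin 1 => (MvPolynomial.X 2 : MvPolynomial (Fin 3) (ULift.{u} ℤ)))).toRingHom

variable {R : Type u} [CommRing R] (h : R)

/-- The classifying map of the parameter. -/
def paramMap : ModelBase.{u} →+* R :=
  MvPolynomial.eval₂Hom ((Int.castRingHom R).comp ULift.ringEquiv.toRingHom) fun _ => -h

/-- The map from the universal node. -/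
def nodeMap : Model.{u} →+* MvPolynomial (Fin 2) R ⧸ nodeEq h :=
  Ideal.Quotient.lift _ (MvPolynomial.eval₂Hom ((Int.castRingHom _).comp ULift.ringEquiv.toRingHom)
      ![Ideal.Quotient.mk _ (MvPolynomial.X 0), Ideal.Quotient.mk _ (MvPolynomial.X 1),
        Ideal.Quotient.mk _ (MvPolynomial.C (-h))]) fun z hz => by
    obtain ⟨r, rfl⟩ := Ideal.mem_span_singleton'.1 hz
    rw [map_mul]
    refine mul_eq_zero_of_right _ ?_
    simp only [map_sub, map_mul, MvPolynomial.eval₂Hom_X', map_neg]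
    show Ideal.Quotient.mk (nodeEq h) (MvPolynomial.X 0) * Ideal.Quotient.mk _ (MvPolynomial.X 1) -
      -Ideal.Quotient.mk _ (MvPolynomial.C h) = 0
    rw [sub_neg_eq_add, ← map_mul, ← map_add]
    exact Ideal.Quotient.eq_zero_iff_mem.2 (Ideal.mem_span_singleton_self _)

theorem nodeMap_X (i : Fin 3) : nodeMap h (Ideal.Quotient.mk _ (MvPolynomial.X i)) =
    ![Ideal.Quotient.mk _ (MvPolynomial.X 0), Ideal.Quotient.mk _ (MvPolynomial.X 1),
      Ideal.Quotient.mk _ (MvPolynomial.C (-h))] i := by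
  show MvPolynomial.eval₂Hom _ _ (MvPolynomial.X i) = _
  rw [MvPolynomial.eval₂Hom_X']

theorem nodeMap_comp :
    (nodeMap h).comp modelMap = ((Ideal.Quotient.mk (nodeEq h)).comp MvPolynomial.C).comp (paramMap h) := by
  refine MvPolynomial.ringHom_ext (fun z => ?_) fun i => ?_
  · exact congrArg (fun f : ULift.{u} ℤ →+* _ => f z) (ulift_int_ext
      (((nodeMap h).comp modelMap).comp MvPolynomial.C)
      ((((Ideal.Quotient.mk (nodeEq h)).comp MvPolynomial.C).comp (paramMap h)).comp MvPolynomial.C))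
  · show nodeMap h (Ideal.Quotient.mk _ (MvPolynomial.aeval _ (MvPolynomial.X i))) =
      Ideal.Quotient.mk _ (MvPolynomial.C (MvPolynomial.eval₂Hom _ _ (MvPolynomial.X i)))
    rw [MvPolynomial.aeval_X, MvPolynomial.eval₂Hom_X', nodeMap_X]
    rfl

section Desc

variable {T : Type u} [CommRing T] (inl : Model.{u} →+* T) (inr : R →+* T)
  (hc : inl.comp modelMap = inr.comp (paramMap h))

include hc in
theorem inl_X_two : inl (Ideal.Quotient.mk _ (MvPolynomial.X 2)) = inr (-h) := by
  have h1 := congrArg (fun f : ModelBase.{u} →+* T => f (MvPolynomial.X 0)) hc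
  simp only [RingHom.comp_apply, paramMap, MvPolynomial.eval₂Hom_X'] at h1
  refine Eq.trans ?_ h1
  rw [show (MvPolynomial.aeval fun _ : Fin 1 => (MvPolynomial.X 2 : MvPolynomial (Fin 3) (ULift.{u} ℤ))).toRingHom
    (MvPolynomial.X 0) = MvPolynomial.X 2 from MvPolynomial.aeval_X _ _]

/-- The map out of the node over a base. -/
def nodeDesc : MvPolynomial (Fin 2) R ⧸ nodeEq h →+* T :=
  Ideal.Quotient.lift (nodeEq h) (MvPolynomial.eval₂Hom inr
    ![inl (Ideal.Quotient.mk _ (MvPolynomial.X 0)), inl (Ideal.Quotient.mk _ (MvPolynomial.X 1))]) fun z hz => by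
    obtain ⟨r, rfl⟩ := Ideal.mem_span_singleton'.1 hz
    rw [map_mul]
    refine mul_eq_zero_of_right _ ?_
    simp only [map_add, map_mul, MvPolynomial.eval₂Hom_X', MvPolynomial.eval₂Hom_C, Matrix.cons_val_zero,
      Matrix.cons_val_one]
    rw [← map_mul inl, ← map_mul, show Ideal.Quotient.mk _ (MvPolynomial.X 0 * MvPolynomial.X 1 :
        MvPolynomial (Fin 3) (ULift.{u} ℤ)) = Ideal.Quotient.mk _ (MvPolynomial.X 2) from
      Ideal.Quotient.eq.2 (Ideal.mem_span_singleton_self _), inl_X_two h inl inr hc, map_neg, neg_add_cancel]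

theorem nodeDesc_C (r : R) : nodeDesc h inl inr hc (Ideal.Quotient.mk _ (MvPolynomial.C r)) = inr r := by
  show MvPolynomial.eval₂Hom _ _ (MvPolynomial.C r) = _
  rw [MvPolynomial.eval₂Hom_C]

theorem nodeDesc_X (i : Fin 2) : nodeDesc h inl inr hc (Ideal.Quotient.mk _ (MvPolynomial.X i)) =
    ![inl (Ideal.Quotient.mk _ (MvPolynomial.X 0)), inl (Ideal.Quotient.mk _ (MvPolynomial.X 1))] i := by
  show MvPolynomial.eval₂Hom _ _ (MvPolynomial.X i) = _
  rw [MvPolynomial.eval₂Hom_X']

theorem nodeDesc_comp : (nodeDesc h inl inr hc).comp (nodeMap h) = inl := by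
  refine Ideal.Quotient.ringHom_ext (MvPolynomial.ringHom_ext (fun z => ?_) fun i => ?_)
  · exact congrArg (fun f : ULift.{u} ℤ →+* _ => f z) (ulift_int_ext
      ((((nodeDesc h inl inr hc).comp (nodeMap h)).comp (Ideal.Quotient.mk _)).comp MvPolynomial.C)
      ((inl.comp (Ideal.Quotient.mk _)).comp MvPolynomial.C))
  · show nodeDesc h inl inr hc (nodeMap h (Ideal.Quotient.mk _ (MvPolynomial.X i))) = inl _
    rw [nodeMap_X]
    fin_cases i
    · exact nodeDesc_X h inl inr hc 0
    · exact nodeDesc_X h inl inr hc 1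
    · exact (nodeDesc_C h inl inr hc (-h)).trans (inl_X_two h inl inr hc).symm

theorem nodeDesc_unique (m : MvPolynomial (Fin 2) R ⧸ nodeEq h →+* T) (h₁ : m.comp (nodeMap h) = inl)
    (h₂ : m.comp ((Ideal.Quotient.mk _).comp MvPolynomial.C) = inr) : m = nodeDesc h inl inr hc := by
  refine Ideal.Quotient.ringHom_ext (MvPolynomial.ringHom_ext (fun r => ?_) fun i => ?_)
  · exact (congrArg (fun f : R →+* T => f r) h₂).trans (nodeDesc_C h inl inr hc r).symm
  · show m (Ideal.Quotient.mk _ (MvPolynomial.X i)) = nodeDesc h inl inr hc (Ideal.Quotient.mk _ (MvPolynomial.X i))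
    rw [nodeDesc_X, ← h₁]
    fin_cases i
    · show _ = m (nodeMap h (Ideal.Quotient.mk _ (MvPolynomial.X 0)))
      rw [nodeMap_X]
      rfl
    · show _ = m (nodeMap h (Ideal.Quotient.mk _ (MvPolynomial.X 1)))
      rw [nodeMap_X]
      rfl

end Desc

/-- The node over a base is the base change of the universal node. -/
theorem isPushout_node :
    IsPushout (CommRingCat.ofHom (R := ModelBase.{u}) (S := Model.{u}) (modelMap.{u}))
      (CommRingCat.ofHom (R := ModelBase.{u}) (S := R) (paramMap h))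
      (CommRingCat.ofHom (R := Model.{u}) (nodeMap h))
      (CommRingCat.ofHom ((Ideal.Quotient.mk (nodeEq h)).comp MvPolynomial.C)) :=
  IsPushout.of_isColimit' ⟨CommRingCat.hom_ext (nodeMap_comp h)⟩ (PushoutCocone.IsColimit.mk _
    (fun s => CommRingCat.ofHom (nodeDesc h s.inl.hom s.inr.hom (congrArg CommRingCat.Hom.hom s.condition)))
    (fun s => CommRingCat.hom_ext (nodeDesc_comp h s.inl.hom s.inr.hom (congrArg CommRingCat.Hom.hom s.condition)))
    (fun s => CommRingCat.hom_ext (RingHom.ext fun r => nodeDesc_C h s.inl.hom s.inr.hom (congrArg CommRingCat.Hom.hom s.condition) r))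
    (fun s m h₁ h₂ => CommRingCat.hom_ext (nodeDesc_unique h s.inl.hom s.inr.hom (congrArg CommRingCat.Hom.hom s.condition) m.hom
      (congrArg CommRingCat.Hom.hom h₁) (congrArg CommRingCat.Hom.hom h₂))))

end Model

end NodalLib.NodeEtale

end
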