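import Groth.Agent.NodalLib.NodeEtale.Diff
import Mathlib.RingTheory.RingHom.Etale
import Mathlib.RingTheory.Kaehler.TensorProduct

/-!
# The relative Morse lemma: a function with nondegenerate Hessian is etale locally a product plus a constant
-/

set_option autoImplicit false
set_option linter.unusedSectionVars false
set_option linter.style.haveILetI false
set_option maxHeartbeats 2000000
set_option synthInstance.maxHeartbeats 200000
set_option backward.isDefEq.respectTransparency false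
set_option backward.isDefEq.respectTransparency.types false

universe u

open KaehlerDifferential TensorProduct

noncomputable section

namespace NodalLib.NodeEtale

/-- An element of the square of a two-generated ideal is a quadratic form in the generators. -/
theorem exists_qf_of_mem_sq {T : Type*} [CommRing T] (u v : T) {z : T} (hz : z ∈ Ideal.span {u, v} ^ 2) :
    ∃ a b c, z = qf a b c u v := by
  rw [pow_two] at hz
  refine Submodule.mul_induction_on hz (fun m hm n hn => ?_) (fun y y' hy hy' => ?_)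
  · obtain ⟨p, q, rfl⟩ := Ideal.mem_span_pair.1 hm
    obtain ⟨r, s, rfl⟩ := Ideal.mem_span_pair.1 hn
    exact ⟨p * r, p * s + q * r, q * s, by simp only [qf]; ring⟩
  · obtain ⟨a, b, c, rfl⟩ := hy
    obtain ⟨a', b', c', rfl⟩ := hy'
    exact ⟨a + a', b + b', c + c', by simp only [qf]; ring⟩

/-- A finitely generated ideal lies in `J` off its zero locus if it does so modulo its square. -/
theorem exists_mul_mem {T : Type*} [CommRing T] (I J : Ideal T) (hI : I.FG) (hle : I ≤ J ⊔ I ^ 2) :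
    ∃ f, f - 1 ∈ I ∧ ∀ z ∈ I, f * z ∈ J := by
  obtain ⟨r, hr, hr'⟩ := Submodule.exists_sub_one_mem_and_smul_eq_zero_of_fg_of_le_smul
    (I.map (Ideal.Quotient.mk J)) (I.map (Ideal.Quotient.mk J)) (hI.map _) (by
      rw [smul_eq_mul, ← Ideal.map_mul, ← pow_two]
      refine (Ideal.map_mono hle).trans ?_
      rw [Ideal.map_sup, Ideal.map_quotient_self, bot_sup_eq])
  obtain ⟨i, hi, hir⟩ := (Ideal.mem_map_iff_of_surjective _ Ideal.Quotient.mk_surjective).1 hr
  refine ⟨1 + i, by simpa using hi, fun z hz => ?_⟩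
  have h := hr' _ (Ideal.mem_map_of_mem _ hz)
  rw [smul_eq_mul, show r = Ideal.Quotient.mk J (1 + i) by rw [map_add, map_one, hir]; ring, ← map_mul,
    Ideal.Quotient.eq_zero_iff_mem] at h
  exact h

/-- A root of a separable quadratic equation is obtained by an etale algebra. -/
theorem exists_root_cover {E : Type u} [CommRing E] {K : Type u} [Field K] [IsAlgClosed K] (χ : E →+* K)
    (a b c : E) (hd : χ (4 * a * c - b ^ 2) ≠ 0) :
    ∃ (E₂ : Type u) (_ : CommRing E₂) (_ : Algebra E E₂) (_ : Algebra.Etale E E₂) (χ₂ : E₂ →+* K) (T : E₂),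
      χ₂.comp (algebraMap E E₂) = χ ∧
      algebraMap E E₂ a * T ^ 2 + algebraMap E E₂ b * T + algebraMap E E₂ c = 0 ∧
      2 * χ a * χ₂ T + χ b ≠ 0 := by
  obtain ⟨t, ht, ht'⟩ : ∃ t : K, χ a * t ^ 2 + χ b * t + χ c = 0 ∧ 2 * χ a * t + χ b ≠ 0 := by
    simp only [map_sub, map_mul, map_pow, map_ofNat] at hd
    by_cases ha : χ a = 0
    · have hb0 : χ b ≠ 0 := fun h => hd (by rw [ha, h]; ring)
      exact ⟨-χ c / χ b, by rw [ha]; field_simp; ring, by simpa [ha] using hb0⟩
    · obtain ⟨t, ht⟩ := IsAlgClosed.exists_root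
        (Polynomial.C (χ a) * Polynomial.X ^ 2 + Polynomial.C (χ b) * Polynomial.X + Polynomial.C (χ c))
        (by rw [Polynomial.degree_quadratic ha]; exact two_ne_zero)
      have ht0 : χ a * t ^ 2 + χ b * t + χ c = 0 := by simpa [Polynomial.IsRoot] using ht
      refine ⟨t, ht0, fun h => hd ?_⟩
      linear_combination (-(2 * χ a * t + χ b)) * h + 4 * χ a * ht0
  let M := MvPolynomial (Fin 2) E
  let A : M := MvPolynomial.C a
  let B : M := MvPolynomial.C b
  let f₁ : M := A * MvPolynomial.X 0 ^ 2 + B * MvPolynomial.X 0 + MvPolynomial.C c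
  let f₂ : M := MvPolynomial.X 1 * (MvPolynomial.C (2 * a) * MvPolynomial.X 0 + B) - 1
  let I₂ : Ideal M := Ideal.span (Set.range ![f₁, f₂])
  let E₂ := M ⧸ I₂
  let T : E₂ := Ideal.Quotient.mk I₂ (MvPolynomial.X 0)
  let W : E₂ := Ideal.Quotient.mk I₂ (MvPolynomial.X 1)
  let α : E →+* E₂ := algebraMap E E₂
  have h1 : α a * T ^ 2 + α b * T + α c = 0 :=
    show Ideal.Quotient.mk I₂ f₁ = 0 from Ideal.Quotient.eq_zero_iff_mem.2 (Ideal.subset_span ⟨0, rfl⟩)
  have h2 : W * (2 * α a * T + α b) - 1 = 0 := by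
    have h : W * (α (2 * a) * T + α b) - 1 = 0 :=
      show Ideal.Quotient.mk I₂ f₂ = 0 from Ideal.Quotient.eq_zero_iff_mem.2 (Ideal.subset_span ⟨1, rfl⟩)
    rwa [map_mul, map_ofNat] at h
  haveI : Algebra.Smooth E M := ⟨inferInstance, inferInstance⟩
  haveI : Algebra.Etale E E₂ := by
    refine etale_quotient_of_jacobian (KaehlerDifferential.mvPolynomialBasis E (Fin 2)) ![f₁, f₂] ?_
    refine IsUnit.of_mul_eq_one (W * W) ?_
    rw [show (Matrix.of fun i j => coordDer (KaehlerDifferential.mvPolynomialBasis E (Fin 2)) i (![f₁, f₂] j)).det =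
        (MvPolynomial.C (2 * a) * MvPolynomial.X 0 + B) * (MvPolynomial.C (2 * a) * MvPolynomial.X 0 + B) by
      rw [Matrix.det_fin_two]
      simp [f₁, f₂, A, B, coordDer_apply, Derivation.leibniz, Derivation.leibniz_pow, MvPolynomial.pderiv_X,
        -map_mul]
      simp only [map_mul, map_ofNat]
      ring]
    show Ideal.Quotient.mk I₂ _ * (W * W) = 1
    simp only [map_mul, map_add, map_ofNat]
    show (2 * α a * T + α b) * (2 * α a * T + α b) * (W * W) = 1
    linear_combination (W * (2 * α a * T + α b) + 1) * h2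
  refine ⟨E₂, inferInstance, inferInstance, inferInstance,
    Ideal.Quotient.lift I₂ (MvPolynomial.eval₂Hom χ ![t, (2 * χ a * t + χ b)⁻¹]) fun z hz => ?_, T, ?_, h1, ?_⟩
  · induction hz using Submodule.span_induction with
    | mem z hz =>
      obtain ⟨i, rfl⟩ := hz
      fin_cases i
      · show MvPolynomial.eval₂Hom χ _ f₁ = 0
        simp only [f₁, A, B, map_add, map_mul, map_pow, MvPolynomial.eval₂Hom_C, MvPolynomial.eval₂Hom_X']
        simpa using ht
      · show MvPolynomial.eval₂Hom χ _ f₂ = 0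
        simp only [f₂, A, B, map_add, map_sub, map_mul, map_one, map_ofNat, MvPolynomial.eval₂Hom_C,
          MvPolynomial.eval₂Hom_X']
        simp [inv_mul_cancel₀ ht']
    | zero => exact map_zero _
    | add y y' _ _ hy hy' => rw [map_add, hy, hy', add_zero]
    | smul r y _ hy => rw [smul_eq_mul, map_mul, hy, mul_zero]
  · ext e
    show MvPolynomial.eval₂Hom χ _ (MvPolynomial.C e) = _
    simp
  · show 2 * χ a * MvPolynomial.eval₂Hom χ _ (MvPolynomial.X 0) + χ b ≠ 0
    simpa using ht'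

/-- Functions with independent differentials at a point are etale coordinates near it. -/
theorem exists_etale_coords {R' E : Type u} [CommRing R'] [CommRing E] [Algebra R' E] [Algebra.Smooth R' E]
    (x : Fin 2 → E) (bE : Module.Basis (Fin 2) E Ω[E⁄R']) (hb : ∀ i, bE i = D R' E (x i))
    {K : Type u} [Field K] (χ : E →+* K) (p : Fin 2 → E)
    (hJ : χ (Matrix.of fun i j => coordDer bE i (p j)).det ≠ 0) :
    ∃ (E₃ : Type u) (_ : CommRing E₃) (_ : Algebra R' E₃) (φ : E →ₐ[R'] E₃) (χ₃ : E₃ →+* K),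
      φ.toRingHom.Etale ∧ χ₃.comp φ.toRingHom = χ ∧
      (MvPolynomial.aeval (R := R') (fun i => φ (p i))).toRingHom.Etale := by
  classical
  let d := (Matrix.of fun i j => coordDer bE i (p j)).det
  let E₃ := Localization.Away d
  haveI : Algebra.Etale E E₃ := Algebra.Etale.of_isLocalizationAway d
  haveI : Algebra.Smooth R' E₃ := Algebra.Smooth.comp R' E E₃
  let φ : E →ₐ[R'] E₃ := IsScalarTower.toAlgHom R' E E₃
  let b₃ := basisOfEtale bE E₃
  have hb₃ : ∀ i, b₃ i = D R' E₃ (φ (x i)) := basisOfEtale_apply bE x hb E₃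
  refine ⟨E₃, inferInstance, inferInstance, φ, IsLocalization.Away.lift d (g := χ) hJ.isUnit,
    RingHom.etale_algebraMap.2 inferInstance, IsLocalization.Away.lift_comp _ _, ?_⟩
  letI : Algebra (MvPolynomial (Fin 2) R') E₃ :=
    (MvPolynomial.aeval (R := R') fun i => φ (p i)).toRingHom.toAlgebra
  haveI : IsScalarTower R' (MvPolynomial (Fin 2) R') E₃ :=
    IsScalarTower.of_algebraMap_eq fun r => ((MvPolynomial.aeval (R := R') fun i => φ (p i)).commutes r).symm
  have hJ₃ : b₃.toMatrix (fun j => D R' E₃ (φ (p j))) =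
      (Matrix.of fun i j => coordDer bE i (p j)).map (algebraMap E E₃) := by
    ext i j
    exact coordDer_map φ bE x hb b₃ hb₃ i _
  obtain ⟨hli, hsp⟩ := (Module.Basis.is_basis_iff_det b₃).2 (show IsUnit (b₃.det fun j => D R' E₃ (φ (p j))) by
    rw [Module.Basis.det_apply, hJ₃, ← RingHom.mapMatrix_apply, ← RingHom.map_det]
    exact IsLocalization.Away.algebraMap_isUnit d)
  haveI := NoetherCharPLib.formallyEtale_of_basis (Module.Basis.mk hli hsp.ge) fun i => by
    rw [Module.Basis.mk_apply]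
    congr 1
    exact (MvPolynomial.aeval_X (R := R') (fun i => φ (p i)) i).symm
  exact { formallyEtale := inferInstance
          finitePresentation := Algebra.FinitePresentation.of_restrict_scalars_finitePresentation R' _ _ }

/-- A nondegenerate quadratic form in two coordinates is etale locally a product of two coordinates. -/
theorem exists_split {R' E : Type u} [CommRing R'] [CommRing E] [Algebra R' E] [Algebra.Smooth R' E]
    (w : Fin 2 → E) (bE : Module.Basis (Fin 2) E Ω[E⁄R']) (hb : ∀ i, bE i = D R' E (w i))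
    {K : Type u} [Field K] [IsAlgClosed K] (χ : E →+* K) (hw : ∀ i, χ (w i) = 0)
    (a b c : E) (hd : χ (4 * a * c - b ^ 2) ≠ 0) :
    ∃ (E₃ : Type u) (_ : CommRing E₃) (_ : Algebra R' E₃) (φ : E →ₐ[R'] E₃) (χ₃ : E₃ →+* K) (p : Fin 2 → E₃),
      φ.toRingHom.Etale ∧ χ₃.comp φ.toRingHom = χ ∧
      (MvPolynomial.aeval (R := R') p).toRingHom.Etale ∧ φ (qf a b c (w 0) (w 1)) = p 0 * p 1 := by
  obtain ⟨E₂, _, _, _, χ₂, T, hχ₂, h1, hT⟩ := exists_root_cover χ a b c hd
  letI : Algebra R' E₂ := ((algebraMap E E₂).comp (algebraMap R' E)).toAlgebra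
  haveI : IsScalarTower R' E E₂ := IsScalarTower.of_algebraMap_eq fun _ => rfl
  haveI : Algebra.Smooth R' E₂ := Algebra.Smooth.comp R' E E₂
  let α := algebraMap E E₂
  have hα : ∀ e, χ₂ (α e) = χ e := fun e => congrArg (fun f : E →+* K => f e) hχ₂
  let b₂ := basisOfEtale bE E₂
  have hb₂ : ∀ i, b₂ i = D R' E₂ (α (w i)) := basisOfEtale_apply bE w hb E₂
  let P : E₂ := α (w 0) - T * α (w 1)
  let Q : E₂ := α a * α (w 0) + (α a * T + α b) * α (w 1)
  have hv : ∀ i, χ₂ (α (w i)) = 0 := fun i => by rw [hα, hw]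
  have hs := coordDer_self b₂ (fun j => α (w j)) hb₂
  obtain ⟨E₃, _, _, φ, χ₃, hφ, hχ₃, hP⟩ := exists_etale_coords (fun i => α (w i)) b₂ hb₂ χ₂ ![P, Q] (by
    rw [Matrix.det_fin_two]
    simp [P, Q, Derivation.leibniz, hv, hs, hα]
    intro h
    exact hT (by linear_combination h))
  refine ⟨E₃, inferInstance, inferInstance, φ.comp (IsScalarTower.toAlgHom R' E E₂), χ₃, fun i => φ (![P, Q] i),
    ?_, ?_, hP, ?_⟩
  · exact RingHom.Etale.stableUnderComposition _ _ (RingHom.etale_algebraMap.2 inferInstance) hφ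
  · rw [← hχ₂, ← hχ₃]
    rfl
  · show φ (α (qf a b c (w 0) (w 1))) = φ P * φ Q
    rw [← map_mul]
    congr 1
    simp only [qf, P, Q, α, map_add, map_mul, map_pow]
    linear_combination (α (w 1)) ^ 2 * h1

/-- The Morse lemma over the critical locus. -/
theorem exists_morse_aux {R E R' : Type u} [CommRing R] [CommRing E] [Algebra R E] [Algebra.Smooth R E]
    [CommRing R'] [Algebra R R'] [Algebra.Etale R R']
    (x : Fin 2 → E) (bE : Module.Basis (Fin 2) E Ω[E⁄R]) (hb : ∀ i, bE i = D R E (x i)) (g d : E)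
    (π : E →ₐ[R] R') (hπg : ∀ j, π (coordDer bE j g) = 0)
    {K : Type u} [Field K] [IsAlgClosed K] (κ : E →+* K) (κ' : R' →+* K) (hκ' : ∀ e, κ' (π e) = κ e)
    (hd : κ d ≠ 0) (hH : κ (Matrix.of fun i j => coordDer bE i (coordDer bE j g)).det ≠ 0) :
    ∃ (E₃ : Type u) (_ : CommRing E₃) (_ : Algebra R' E₃) (φ : E →+* E₃) (χ : E₃ →+* K) (p : Fin 2 → E₃),
      φ.Etale ∧ (∀ r, φ (algebraMap R E r) = algebraMap R' E₃ (algebraMap R R' r)) ∧ χ.comp φ = κ ∧
      IsUnit (φ d) ∧ (MvPolynomial.aeval (R := R') p).toRingHom.Etale ∧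
      φ g = p 0 * p 1 + algebraMap R' E₃ (π g) := by
  classical
  let E' := R' ⊗[R] E
  let ι : E →ₐ[R] E' := Algebra.TensorProduct.includeRight
  let σ : E' →ₐ[R'] R' := Algebra.TensorProduct.lift (AlgHom.id R' R') π fun _ _ => Commute.all _ _
  have hσι : ∀ e, σ (ι e) = π e := fun e => by
    show Algebra.TensorProduct.lift (AlgHom.id R' R') π (fun _ _ => Commute.all _ _) ((1 : R') ⊗ₜ[R] e) = π e
    rw [Algebra.TensorProduct.lift_tmul, map_one, one_mul]
  letI : Algebra E E' := Algebra.TensorProduct.rightAlgebra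
  let w : Fin 2 → E' := fun i : Fin 2 => ι (x i) - algebraMap R' E' (π (x i))
  let b' : Module.Basis (Fin 2) E' Ω[E'⁄R'] := (bE.baseChange E').map (tensorKaehlerEquiv R R' E E')
  have hb' : ∀ i, b' i = D R' E' (ι (x i)) := fun i => by
    rw [Module.Basis.map_apply, Module.Basis.baseChange_apply, hb, tensorKaehlerEquiv_tmul_D, one_smul]
    rfl
  have hb'w : ∀ i, b' i = D R' E' (w i) := fun i => by simp [w, hb']
  have hσw : ∀ i, σ (w i) = 0 := fun i => by simp [w, hσι]
  let I := RingHom.ker σ.toRingHom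
  let J : Ideal E' := Ideal.span {w 0, w 1}
  have hmemI : ∀ e, ι e - algebraMap R' E' (π e) ∈ I := fun e : E => by
    show σ _ = 0
    simp [hσι]
  let mk2 : E' →ₐ[R] E' ⧸ I ^ 2 := Ideal.Quotient.mkₐ R _
  have hexp : ∀ e, ι e - algebraMap R' E' (π e) -
      ∑ i, algebraMap R' E' (π (coordDer bE i e)) * w i ∈ I ^ 2 := fun e => by
    have h := sub_eq_sum bE x hb (mk2.comp ι) (mk2.comp ((IsScalarTower.toAlgHom R R' E').comp π))
      (fun y z => by
        show (Ideal.Quotient.mk (I ^ 2) _ - Ideal.Quotient.mk (I ^ 2) _) *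
          (Ideal.Quotient.mk (I ^ 2) _ - Ideal.Quotient.mk (I ^ 2) _) = 0
        rw [← map_sub, ← map_sub, ← map_mul, Ideal.Quotient.eq_zero_iff_mem, pow_two]
        exact Ideal.mul_mem_mul (hmemI y) (hmemI z)) e
    rw [← Ideal.Quotient.eq_zero_iff_mem, map_sub, map_sum, sub_eq_zero]
    simpa [mk2, w, map_sub] using h
  have hI : I ≤ J ⊔ I ^ 2 := fun z hz => by
    have key : ∀ z : E', z - algebraMap R' E' (σ z) ∈ J ⊔ I ^ 2 := fun z => by
      induction z using TensorProduct.induction_on with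
      | zero => simp
      | tmul r e =>
        have : r ⊗ₜ[R] e - algebraMap R' E' (σ (r ⊗ₜ e)) =
            algebraMap R' E' r * ((ι e - algebraMap R' E' (π e) -
              ∑ i, algebraMap R' E' (π (coordDer bE i e)) * w i) +
              ∑ i, algebraMap R' E' (π (coordDer bE i e)) * w i) := by
          show r ⊗ₜ[R] e - (r * π e) ⊗ₜ[R] (1 : E) = _
          rw [sub_add_cancel]
          show _ = (r ⊗ₜ[R] (1 : E)) * ((1 : R') ⊗ₜ[R] e - (π e) ⊗ₜ[R] (1 : E))
          rw [mul_sub, Algebra.TensorProduct.tmul_mul_tmul, Algebra.TensorProduct.tmul_mul_tmul, mul_one, one_mul,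
            mul_one]
        rw [this]
        refine Ideal.mul_mem_left _ _ (add_mem (Ideal.mem_sup_right (hexp e)) (Ideal.mem_sup_left ?_))
        rw [Fin.sum_univ_two]
        exact add_mem (Ideal.mul_mem_left _ _ (Ideal.subset_span (by simp)))
          (Ideal.mul_mem_left _ _ (Ideal.subset_span (by simp)))
      | add y y' hy hy' => rw [map_add, map_add, add_sub_add_comm]; exact add_mem hy hy'
    simpa [show σ z = 0 from hz] using key z
  haveI : Algebra.Smooth R' E' := inferInstance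
  obtain ⟨f, hf1, hf⟩ := exists_mul_mem I J
    (Algebra.FinitePresentation.ker_fG_of_surjective σ fun r => ⟨algebraMap R' E' r, σ.commutes r⟩) hI
  have hσf : σ f = 1 := by
    have : σ (f - 1) = 0 := hf1
    simpa [sub_eq_zero] using this
  let g' : E' := ι g - algebraMap R' E' (π g)
  have hg2 : g' ∈ I ^ 2 := by simpa [hπg] using hexp g
  obtain ⟨a, b, c, habc⟩ : ∃ a b c, f ^ 2 * g' = qf a b c (w 0) (w 1) := by
    refine exists_qf_of_mem_sq _ _ ?_
    rw [pow_two I] at hg2
    refine Submodule.mul_induction_on (C := fun z => f ^ 2 * z ∈ J ^ 2) hg2 (fun m hm n hn => ?_)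
      fun y y' hy hy' => by rw [mul_add]; exact add_mem hy hy'
    rw [pow_two, pow_two, mul_mul_mul_comm]
    exact Ideal.mul_mem_mul (hf m hm) (hf n hn)
  have hι : ∀ i e, coordDer b' i (ι e) = ι (coordDer bE i e) := fun i e => coordDer_map ι bE x hb b' hb' i e
  have hDalg : ∀ i r, coordDer b' i (algebraMap R' E' r) = 0 := fun i r => Derivation.map_algebraMap _ r
  have hmat : ∀ i j, π (coordDer bE i (coordDer bE j g)) =
      qfPolar (σ a) (σ b) (σ c) (if i = 0 then 1 else 0) (if i = 1 then 1 else 0)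
        (if j = 0 then 1 else 0) (if j = 1 then 1 else 0) := fun i j => by
    have h1 : σ.toRingHom (coordDer b' i (coordDer b' j (qf a b c (w 0) (w 1)))) = _ :=
      der_der_qf σ.toRingHom (coordDer b' i) (coordDer b' j) a b c (w 0) (w 1) (hσw 0) (hσw 1)
    simp only [coordDer_self b' w hb'w, apply_ite σ.toRingHom, map_one, map_zero] at h1
    refine Eq.trans ?_ h1
    have hg0 : ∀ k, σ.toRingHom (coordDer b' k g') = 0 := fun k => by
      show σ (coordDer b' k g') = 0
      simp [g', hι, hDalg, hσι, hπg]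
    rw [← habc, der_der_mul σ.toRingHom _ _ (f ^ 2) g' (by show σ g' = 0; simp [g', hσι]) (hg0 i) (hg0 j)]
    show _ = σ (f ^ 2) * σ (coordDer b' i (coordDer b' j g'))
    simp [g', hι, hDalg, hσι, hσf]
  have hdisc : π (Matrix.of fun i j => coordDer bE i (coordDer bE j g)).det = σ (4 * a * c - b ^ 2) := by
    rw [Matrix.det_fin_two]
    simp only [Matrix.of_apply, map_sub, map_mul, hmat, qfPolar, map_pow, map_ofNat]
    simp
    ring
  let χ' : E' →+* K := κ'.comp σ.toRingHom
  let E₁ := Localization.Away (f * ι d)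
  let χ₁ : E₁ →+* K := IsLocalization.Away.lift (f * ι d) (g := χ') (by
    show IsUnit (κ' (σ (f * ι d)))
    rw [map_mul, hσf, one_mul, hσι, hκ']
    exact hd.isUnit)
  have hχ₁ : ∀ z, χ₁ (algebraMap E' E₁ z) = κ' (σ z) := fun z => IsLocalization.Away.lift_eq _ _ _
  haveI : Algebra.Etale E' E₁ := Algebra.Etale.of_isLocalizationAway (f * ι d)
  haveI : Algebra.Smooth R' E₁ := Algebra.Smooth.comp R' E' E₁
  have hfd : IsUnit (algebraMap E' E₁ (f * ι d)) := IsLocalization.Away.algebraMap_isUnit _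
  rw [map_mul] at hfd
  obtain ⟨fi, hfi⟩ := (isUnit_of_mul_isUnit_left hfd).exists_left_inv
  have hχfi : χ₁ fi = 1 := by
    have := congrArg χ₁ hfi
    rwa [map_mul, hχ₁, hσf, map_one, mul_one, map_one] at this
  let a₁ := fi ^ 2 * algebraMap E' E₁ a
  let b₁ := fi ^ 2 * algebraMap E' E₁ b
  let c₁ := fi ^ 2 * algebraMap E' E₁ c
  obtain ⟨E₃, _, _, φ₃, χ₃, p, hφ₃, hχ₃, hPQ, hqf⟩ := exists_split (fun i => algebraMap E' E₁ (w i))
    (basisOfEtale b' E₁) (basisOfEtale_apply b' w hb'w E₁) χ₁ (fun i => by rw [hχ₁, hσw, map_zero]) a₁ b₁ c₁ (by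
      have : χ₁ (4 * a₁ * c₁ - b₁ ^ 2) = κ' (σ (4 * a * c - b ^ 2)) := by
        simp [a₁, b₁, c₁, hχfi, hχ₁, map_ofNat]
      rw [this, ← hdisc, hκ']
      exact hH)
  let φ : E →+* E₃ := φ₃.toRingHom.comp ((algebraMap E' E₁).comp ι.toRingHom)
  refine ⟨E₃, inferInstance, inferInstance, φ, χ₃, p,
    ?_, fun r => ?_, ?_, ?_, hPQ, ?_⟩
  · refine RingHom.Etale.stableUnderComposition _ _ (RingHom.Etale.stableUnderComposition _ _ ?_
      (RingHom.etale_algebraMap.2 inferInstance)) hφ₃
    have he : ι.toRingHom = (Algebra.TensorProduct.comm R E R').toRingEquiv.toRingHom.comp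
        (algebraMap E (E ⊗[R] R')) := RingHom.ext fun e => rfl
    rw [he]
    exact RingHom.Etale.stableUnderComposition _ _ (RingHom.etale_algebraMap.2 inferInstance)
      (RingHom.Etale.of_bijective (Algebra.TensorProduct.comm R E R').toRingEquiv.bijective)
  · show φ₃ (algebraMap E' E₁ (ι (algebraMap R E r))) = _
    rw [ι.commutes, IsScalarTower.algebraMap_apply R R' E', ← IsScalarTower.algebraMap_apply R' E' E₁, φ₃.commutes]
  · ext e
    show χ₃ (φ₃ (algebraMap E' E₁ (ι e))) = κ e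
    exact (congrArg (fun f : E₁ →+* K => f (algebraMap E' E₁ (ι e))) hχ₃).trans (by rw [hχ₁, hσι, hκ'])
  · exact (isUnit_of_mul_isUnit_right hfd).map φ₃
  · show φ₃ (algebraMap E' E₁ (ι g)) = _
    rw [← hqf, ← φ₃.commutes, ← map_add]
    congr 1
    have h := congrArg (algebraMap E' E₁) habc
    simp only [g', qf, map_mul, map_pow, map_sub, map_add, ← IsScalarTower.algebraMap_apply R' E' E₁] at h
    simp only [qf, a₁, b₁, c₁, ← mul_add, mul_assoc]
    linear_combination (fi ^ 2) * h - (algebraMap E' E₁ (ι g) - algebraMap R' E₁ (π g)) *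
      (fi * algebraMap E' E₁ f + 1) * hfi

/-- The relative Morse lemma. -/
theorem exists_morse {R E : Type u} [CommRing R] [CommRing E] [Algebra R E] [Algebra.Smooth R E]
    (x : Fin 2 → E) (bE : Module.Basis (Fin 2) E Ω[E⁄R]) (hb : ∀ i, bE i = D R E (x i)) (g d : E)
    {K : Type u} [Field K] [IsAlgClosed K] (κ : E →+* K) (hd : κ d ≠ 0)
    (hDg : ∀ i, κ (coordDer bE i g) = 0)
    (hH : κ (Matrix.of fun i j => coordDer bE i (coordDer bE j g)).det ≠ 0) :
    ∃ (R' : Type u) (_ : CommRing R') (_ : Algebra R R') (_ : Algebra.Etale R R') (h : R')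
      (E₃ : Type u) (_ : CommRing E₃) (_ : Algebra R' E₃) (φ : E →+* E₃) (χ : E₃ →+* K) (p : Fin 2 → E₃),
      φ.Etale ∧ (∀ r, φ (algebraMap R E r) = algebraMap R' E₃ (algebraMap R R' r)) ∧ χ.comp φ = κ ∧
      IsUnit (φ d) ∧ (MvPolynomial.aeval (R := R') p).toRingHom.Etale ∧
      φ g = p 0 * p 1 + algebraMap R' E₃ h := by
  classical
  let H : Matrix (Fin 2) (Fin 2) E := Matrix.of fun i j => coordDer bE i (coordDer bE j g)
  let Ed := Localization.Away (d * H.det)
  haveI : Algebra.Etale E Ed := Algebra.Etale.of_isLocalizationAway (d * H.det)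
  haveI : Algebra.Smooth R Ed := Algebra.Smooth.comp R E Ed
  let bd := basisOfEtale bE Ed
  have hbd : ∀ i, bd i = D R Ed (algebraMap E Ed (x i)) := basisOfEtale_apply bE x hb Ed
  let gv : Fin 2 → Ed := fun j => algebraMap E Ed (coordDer bE j g)
  let R' := Ed ⧸ Ideal.span (Set.range gv)
  have hdH : IsUnit (algebraMap E Ed (d * H.det)) := IsLocalization.Away.algebraMap_isUnit _
  haveI : Algebra.Etale R R' := by
    refine etale_quotient_of_jacobian bd gv ?_
    have hm : (Matrix.of fun i j => coordDer bd i (gv j)) = H.map (algebraMap E Ed) := by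
      ext i j
      exact coordDer_map (IsScalarTower.toAlgHom R E Ed) bE x hb bd hbd i _
    rw [hm, ← RingHom.mapMatrix_apply, ← RingHom.map_det]
    exact (isUnit_of_mul_isUnit_right (by rw [← map_mul]; exact hdH)).map _
  let π : E →ₐ[R] R' := (Ideal.Quotient.mkₐ R _).comp (IsScalarTower.toAlgHom R E Ed)
  have hπg : ∀ j, π (coordDer bE j g) = 0 := fun j =>
    Ideal.Quotient.eq_zero_iff_mem.2 (Ideal.subset_span ⟨j, rfl⟩)
  have hκu : IsUnit (κ (d * H.det)) := by
    rw [map_mul]
    exact (mul_ne_zero hd hH).isUnit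
  let κd : Ed →+* K := IsLocalization.Away.lift (d * H.det) (g := κ) hκu
  let κ' : R' →+* K := Ideal.Quotient.lift _ κd fun z hz => by
    induction hz using Submodule.span_induction with
    | mem z hz =>
      obtain ⟨i, rfl⟩ := hz
      exact (IsLocalization.Away.lift_eq _ hκu _).trans (hDg i)
    | zero => exact map_zero _
    | add y y' _ _ hy hy' => rw [map_add, hy, hy', add_zero]
    | smul r y _ hy => rw [smul_eq_mul, map_mul, hy, mul_zero]
  have hκ' : ∀ e, κ' (π e) = κ e := fun e => IsLocalization.Away.lift_eq _ hκu _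
  obtain ⟨E₃, _, _, φ, χ, p, h1, h2, h3, h4, h5, h6⟩ :=
    exists_morse_aux x bE hb g d π hπg κ κ' hκ' hd hH
  exact ⟨R', inferInstance, inferInstance, inferInstance, π g, E₃, _, _, φ, χ, p, h1, h2, h3, h4, h5, h6⟩

end NodalLib.NodeEtale

end
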