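import Groth.Agent.NodalLib.NodeEtale.Assemble
import Groth.Agent.NodalLib.NodeChar
import Groth.Agent.NodalLib.NodeFamilyCpl

/-!
# The hypotheses of the local structure theorem at a node of a fibre
-/

set_option autoImplicit false
set_option linter.unusedSectionVars false
set_option linter.style.haveILetI false
set_option maxHeartbeats 2000000
set_option synthInstance.maxHeartbeats 200000
set_option backward.isDefEq.respectTransparency false
set_option backward.isDefEq.respectTransparency.types false

universe u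

open IsLocalRing CategoryTheory CategoryTheory.Limits AlgebraicGeometry

noncomputable section

namespace NodalLib.NodeEtale

variable {X S : Scheme.{u}} (f : X ⟶ S) [Flat f] [LocallyOfFinitePresentation f] (x : X)

/-- The etale local structure at a node of a fibre. -/
theorem exists_etale_node
    (hx : @Curv2.IsNode (S.residueField (f x)) _ (f.fiber (f x)) ⟨f.fiberToSpecResidueField (f x)⟩ (f.asFiber x)) :
    ∃ (U V W : Scheme.{u}) (gU : U ⟶ X) (gV : V ⟶ S) (p : U ⟶ V) (e : U ⟶ W) (q : W ⟶ V)
      (h : V ⟶ Spec (CommRingCat.of ModelBase.{u})) (r : W ⟶ Spec (CommRingCat.of Model.{u})),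
      Etale gU ∧ Etale gV ∧ Etale e ∧ gU ≫ f = p ≫ gV ∧ e ≫ q = p ∧
      IsPullback r q (Spec.map (CommRingCat.ofHom (R := ModelBase.{u}) (S := Model.{u}) modelMap.{u})) h ∧
      x ∈ Set.range gU := by
  classical
  obtain ⟨_, ⟨V₀, hV₀, rfl⟩, hxV, -⟩ := (TopologicalSpace.Opens.isBasis_iff_nbhd.mp S.isBasis_affineOpens
    (U := ⊤) (x := f x) trivial) |> fun ⟨V, h1, h2, _⟩ => (⟨V, ⟨V, h1, rfl⟩, h2, trivial⟩ :
      ∃ V' : S.Opens, (∃ W : S.Opens, IsAffineOpen W ∧ W = V') ∧ f x ∈ V' ∧ True)
  obtain ⟨U₀, hU₀, hxU, hUV⟩ := TopologicalSpace.Opens.isBasis_iff_nbhd.mp X.isBasis_affineOpens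
    (U := f ⁻¹ᵁ V₀) (x := x) hxV
  let s := f x
  let F := f.fiber s
  let k := S.residueField s
  letI : F.Over (Spec (CommRingCat.of k)) := ⟨f.fiberToSpecResidueField s⟩
  haveI : LocallyOfFiniteType (F ↘ Spec (CommRingCat.of k)) :=
    MorphismProperty.pullback_snd (P := @LocallyOfFiniteType) f (S.fromSpecResidueField s) inferInstance
  haveI : IsLocallyNoetherian F := LocallyOfFiniteType.isLocallyNoetherian (F ↘ Spec (CommRingCat.of k))
  let A := F.presheaf.stalk (f.asFiber x)
  letI := Curv2.stalkAlgebra k F (f.asFiber x)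
  haveI := essFiniteType_stalk k (X := F) (f.asFiber x)
  haveI : IsNoetherianRing A := Algebra.EssFiniteType.isNoetherianRing k A
  obtain ⟨hsep, hQ⟩ := isGeoNode_iff_qnode.1 ((isNode_iff k (f.asFiber x)).1 hx).2
  haveI := hsep
  haveI : Algebra.FormallyEtale k (ResidueField A) := Algebra.FormallyEtale.of_isSeparable k _
  have hCI := isCompleteIntersection_of_qnode (k := k) hQ
  obtain ⟨τ, hτs, hτk, hτ⟩ := exists_fibre_quotient f x
  let R := Γ(S, V₀)
  let B := Γ(X, U₀)
  letI : Algebra R B := (f.appLE V₀ U₀ hUV).hom.toAlgebra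
  haveI : Algebra.FinitePresentation R B := f.finitePresentation_appLE hV₀ hU₀ hUV
  haveI : Module.Flat R B := f.flat_appLE hV₀ hU₀ hUV
  let O := X.presheaf.stalk x
  letI : Algebra B O := TopCat.Presheaf.algebra_section_stalk X.presheaf ⟨x, hxU⟩
  let q := (hU₀.primeIdealOf ⟨x, hxU⟩).asIdeal
  haveI : IsLocalization.AtPrime O q := hU₀.isLocalization_stalk ⟨x, hxU⟩
  let Os := S.presheaf.stalk s
  letI : Algebra R Os := TopCat.Presheaf.algebra_section_stalk S.presheaf ⟨s, hxV⟩
  let ps := (hV₀.primeIdealOf ⟨s, hxV⟩).asIdeal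
  haveI : IsLocalization.AtPrime Os ps := hV₀.isLocalization_stalk ⟨s, hxV⟩
  let π : B →+* A := τ.comp (algebraMap B O)
  have hgerm : ∀ r : R, (f.stalkMap x).hom (algebraMap R Os r) = algebraMap B O (algebraMap R B r) := fun r => by
    show (f.stalkMap x).hom (S.presheaf.germ V₀ (f x) hxV r) = X.presheaf.germ U₀ x hxU ((f.appLE V₀ U₀ hUV).hom r)
    refine (f.germ_stalkMap_apply V₀ x hxV r).trans ?_
    rw [Scheme.Hom.appLE, CommRingCat.comp_apply]
    exact (TopCat.Presheaf.germ_res_apply X.presheaf _ x hxU _).symm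
  haveI : IsLocalHom τ := .of_surjective τ hτs
  have hτm : (maximalIdeal A).comap τ = maximalIdeal O := by
    have h04 := (local_hom_TFAE τ).out 0 4
    exact h04.1 ‹IsLocalHom τ›
  have hq : (maximalIdeal A).comap π = q := by
    rw [← Ideal.comap_comap, hτm]
    exact IsLocalization.AtPrime.under_maximalIdeal O q
  have hps : q.under R = ps := by
    show q.comap (algebraMap R B) = _
    rw [← IsLocalization.AtPrime.under_maximalIdeal O q, ← IsLocalization.AtPrime.under_maximalIdeal Os ps]
    show ((maximalIdeal O).comap (algebraMap B O)).comap (algebraMap R B) = (maximalIdeal Os).comap (algebraMap R Os)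
    have h04 := (local_hom_TFAE (f.stalkMap x).hom).out 0 4
    rw [← h04.1 (inferInstance : IsLocalHom (f.stalkMap x).hom), Ideal.comap_comap, Ideal.comap_comap]
    exact congrArg (fun φ : R →+* O => (maximalIdeal O).comap φ) (RingHom.ext fun r => (hgerm r).symm)
  have hms : (maximalIdeal Os).map (f.stalkMap x).hom = ((q.under R).map (algebraMap R B)).map (algebraMap B O) := by
    rw [hps, ← IsLocalization.AtPrime.map_eq_maximalIdeal ps Os, Ideal.map_map, Ideal.map_map]
    exact congrArg (fun φ : R →+* O => ps.map φ) (RingHom.ext hgerm)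
  have hloc : ∀ z, ∃ b t, IsUnit (π t) ∧ z * π t = π b := fun z => by
    obtain ⟨z, rfl⟩ := hτs z
    obtain ⟨⟨b, t⟩, hz⟩ := IsLocalization.surj (M := q.primeCompl) z
    refine ⟨b, t, (IsLocalization.map_units O t).map τ, ?_⟩
    show τ z * τ _ = τ _
    rw [← map_mul, hz]
  have hker : ∀ b, π b = 0 ↔ ∃ t ∉ q, t * b ∈ (q.under R).map (algebraMap R B) := fun b => by
    show τ (algebraMap B O b) = 0 ↔ _
    rw [← RingHom.mem_ker, hτk, hms, IsLocalization.algebraMap_mem_map_algebraMap_iff q.primeCompl]
    rfl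
  have hsepR : Algebra.FormallyUnramified R q.ResidueField := by
    letI : Algebra Os k := (residue Os).toAlgebra
    letI : Algebra R k := ((residue Os).comp (algebraMap R Os)).toAlgebra
    haveI : IsScalarTower R Os k := IsScalarTower.of_algebraMap_eq fun _ => rfl
    haveI : Algebra.FormallyUnramified R Os := Algebra.FormallyUnramified.of_isLocalization ps.primeCompl
    haveI : Algebra.FormallyUnramified Os k :=
      Algebra.FormallyUnramified.of_surjective (Algebra.ofId Os k) residue_surjective
    haveI : Algebra.FormallyUnramified R k := Algebra.FormallyUnramified.comp R Os k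
    letI : Algebra R (ResidueField A) := ((algebraMap k (ResidueField A)).comp (algebraMap R k)).toAlgebra
    haveI : IsScalarTower R k (ResidueField A) := IsScalarTower.of_algebraMap_eq fun _ => rfl
    haveI : Algebra.FormallyUnramified R (ResidueField A) := Algebra.FormallyUnramified.comp R k _
    let ρ : B →ₐ[R] ResidueField A := { (residue A).comp π with
      commutes' := fun r => by
        show residue A (τ (algebraMap B O (algebraMap R B r))) = _
        rw [← hgerm r, hτ]
        rfl }
    have hρq : ∀ b, ρ b = 0 ↔ b ∈ q := fun b => by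
      show residue A (π b) = 0 ↔ _
      rw [residue_eq_zero_iff, ← hq]
      rfl
    let L := Ideal.ResidueField.liftₐ q ρ (fun b hb => (hρq b).2 hb)
      (fun b hb => (isUnit_iff_ne_zero.2 fun h => hb ((hρq b).1 h)))
    have hL : Function.Bijective L := ⟨L.toRingHom.injective, fun z => by
      obtain ⟨a, rfl⟩ := residue_surjective z
      obtain ⟨b, t, ht, hbt⟩ := hloc a
      refine ⟨algebraMap B _ b / algebraMap B _ t, ?_⟩
      rw [map_div₀, Ideal.ResidueField.liftₐ_algebraMap, Ideal.ResidueField.liftₐ_algebraMap]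
      show residue A (π b) / residue A (π t) = _
      rw [← hbt, map_mul, mul_div_assoc, div_self ((residue_ne_zero_iff_isUnit _).2 ht), mul_one]⟩
    exact Algebra.FormallyUnramified.of_equiv (AlgEquiv.ofBijective L hL).symm
  obtain ⟨R', _, γ, h, U, _, β, α, hγ, hβ, hα, hcomm, P, hP⟩ :=
    exists_local_structure q π hq hloc hker hsepR hQ hCI
  let M' := MvPolynomial (Fin 2) R' ⧸ nodeEq h
  let j : R' →+* M' := (Ideal.Quotient.mk (nodeEq h)).comp MvPolynomial.C
  haveI := (HasRingHomProperty.Spec_iff (P := @Etale) (φ := CommRingCat.ofHom γ)).2 hγ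
  haveI := (HasRingHomProperty.Spec_iff (P := @Etale) (φ := CommRingCat.ofHom β)).2 hβ
  haveI := (HasRingHomProperty.Spec_iff (P := @Etale) (φ := CommRingCat.ofHom α)).2 hα
  refine ⟨Spec (CommRingCat.of U), Spec (CommRingCat.of R'), Spec (CommRingCat.of M'),
    Spec.map (CommRingCat.ofHom β) ≫ hU₀.fromSpec, Spec.map (CommRingCat.ofHom γ) ≫ hV₀.fromSpec,
    Spec.map (CommRingCat.ofHom (α.comp j)), Spec.map (CommRingCat.ofHom α), Spec.map (CommRingCat.ofHom j),
    Spec.map (CommRingCat.ofHom (paramMap h)), Spec.map (CommRingCat.ofHom (R := Model.{u}) (nodeMap h)),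
    inferInstance, inferInstance, inferInstance, ?_, ?_,
    isPullback_SpecMap_of_isPushout _ _ _ _ (isPushout_node h), P, ?_⟩
  · rw [Category.assoc, ← IsAffineOpen.SpecMap_appLE_fromSpec f hV₀ hU₀ hUV, ← Category.assoc, ← Spec.map_comp,
      ← Category.assoc, ← Spec.map_comp]
    congr 2
    exact CommRingCat.hom_ext hcomm
  · rw [← Spec.map_comp]
    rfl
  · show hU₀.fromSpec (Spec.map (CommRingCat.ofHom β) P) = x
    rw [show Spec.map (CommRingCat.ofHom β) P = hU₀.primeIdealOf ⟨x, hxU⟩ from PrimeSpectrum.ext hP]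
    exact hU₀.fromSpec_primeIdealOf ⟨x, hxU⟩

end NodalLib.NodeEtale

end
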